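import Cfsg.Agent.H655.Rg.KExt4
import Cfsg.Agent.H2.Rb.Ref

/-!
# S3691, plus type: `kext_ten` (helper410): `q = 2`, `m = 10`, groups normalising a field of 4 elements (after helper655's `kext_even'`)
-/

set_option autoImplicit false

namespace Cfsg.Agent.H410.Rg

open Module Cfsg Cfsg.Geo Cfsg.Agent.LieClassical.OrthCore Cfsg.Agent.LieClassical.OrthTrans
  Cfsg.Agent.H955 Cfsg.Agent.H954.TSing Cfsg.Agent.H884.El Cfsg.Agent.H278.Cov Cfsg.Agent.H449.Reg Cfsg.Agent.H655.Rg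
open Cfsg.Agent.H951 (fx cm Inv)
open scoped MatrixGroups Matrix

universe u v

variable {F : Type u} [Field F] [Fintype F] {V : Type v} [AddCommGroup V] [Module F V]
  {Q : QuadraticForm F V} {A : Subgroup (V ≃ₗ[F] V)}

theorem acts_of_not_red {n : ℕ} {E : Type u} [Field E] {H : Subgroup (GL (Fin n) E)} (hirr : ¬ Red H) :
    ActsIrreducibly (matrixSet H) := by
  intro W hW
  by_contra hcon
  rw [not_or] at hcon
  have key : ∀ h ∈ H, ∀ w ∈ W, (h : Matrix (Fin n) (Fin n) E) *ᵥ w ∈ W := by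
    intro h hh w hw
    have h1 := hW (h : Matrix (Fin n) (Fin n) E) ⟨h, hh, rfl⟩
    have h2 := h1 (Submodule.mem_map_of_mem hw)
    rwa [Matrix.toLin'_apply] at h2
  refine hirr ⟨W, hcon.1, hcon.2, fun h hh v => ?_⟩
  change v ∈ W ↔ (h : Matrix (Fin n) (Fin n) E) *ᵥ v ∈ W
  refine ⟨fun h1 => key h hh _ h1, fun h1 => ?_⟩
  have h2 := key h⁻¹ (H.inv_mem hh) _ h1
  rwa [Matrix.mulVec_mulVec, ← Units.val_mul, inv_mul_cancel, Units.val_one, Matrix.one_mulVec] at h2

/-- **`q = 2`, `m = 10`** -/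
theorem kext_ten (hKS : ∀ (T : Type u) [Group T] [Finite T] [IsSimpleGroup T], IsKnownSimple' T)
    (hF : Fintype.card F = 2) (hn : finrank F V = 20) (hQ : Nondeg Q) (hA : A ≤ O Q)
    (hirr : ∀ W : Submodule F V, (∀ a ∈ A, ∀ w ∈ W, a w ∈ W) → W = ⊥ ∨ W = ⊤) (hK : AExt 2 A)
    (h19 : 19 ∣ Nat.card A) (h31 : 31 ∣ Nat.card A) :
    (∀ t, PP 2 16 t → t ∣ Nat.card A) ∨ (∀ t, PP 2 14 t → t ∣ Nat.card A) := by
  have _ := hQ
  have _ := hA
  obtain ⟨n, φ₀, K, -, hKf, hle⟩ := hK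
  have hn' := finrank_of_equiv φ₀
  have hn2 : n = 2 * 10 := by omega
  have hfinV : Finite V := by
    have : FiniteDimensional F V := Module.finite_of_finrank_pos (by omega)
    exact Module.finite_of_finite F
  have hfinGL : Finite (V ≃ₗ[F] V) := Finite.of_injective (fun g : V ≃ₗ[F] V => (g : V → V)) DFunLike.coe_injective
  obtain ⟨E, iE, iFE, hE, ⟨φ⟩⟩ := exists_fr hKf hn2 (by norm_num) (by omega)
  set B := A.map (cj φ₀).toMonoidHom with hB
  have hcard : Nat.card B = Nat.card A := Subgroup.card_map_of_injective (cj φ₀).injective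
  have hne : Nonempty (Fin n) := ⟨⟨0, by omega⟩⟩
  have := Fact.mk (by norm_num : Nat.Prime 19)
  obtain ⟨g, hg⟩ := exists_prime_orderOf_dvd_card' (G := B) 19 (by rw [hcard]; exact h19)
  set x : GL (Fin n) F := g.1 with hx
  have hxo : orderOf x = 19 := by rw [hx, Subgroup.orderOf_coe]; exact hg
  have hxr : x ^ 19 = 1 := by rw [← hxo, pow_orderOf_eq_one]
  have hx1 : x ≠ 1 := by
    intro h
    rw [h, orderOf_one] at hxo
    omega
  have hrF : PP (Nat.card F) 18 19 := by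
    rw [Nat.card_eq_fintype_card, hF]
    exact ⟨by norm_num, H2.Rb.ord_2_19⟩
  have hco : Nat.Coprime (orderOf x) 2 := by rw [hxo]; norm_num
  have hred : ¬ Red (low φ B) := not_red_even φ hKf hle (e := 18) (by omega) ⟨9, by omega⟩ (by omega) g.2
    (mem_cz hKf hle g.2 hco) hxr hx1 hrF (irr_mat φ₀ hirr)
  have hdv : ∀ t, t ∣ Nat.card (low φ B) → t ∣ Nat.card A := fun t ht => hcard ▸ ht.trans (card_low_dvd φ B)
  have hup : ∀ t, Nat.Coprime t 2 → t ∣ Nat.card A → t ∣ Nat.card (low φ B) := by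
    intro t htc ht
    have h2 : Nat.card B ∣ Nat.card (low φ B) * 2 := by rw [card_low]; exact card_dvd_mul hKf hle
    rw [← hcard] at ht
    exact htc.dvd_of_dvd_mul_right (ht.trans h2)
  have hcE : Nat.card E = 4 := by rw [Nat.card_eq_fintype_card, hE, hF]; norm_num
  have hPE : ∀ {t j : ℕ}, PP 2 (2 * j) t → PP (Nat.card E) j t := fun {t j} ht => by
    rw [hcE]
    exact PP.of_pow (p := 2) (a := 2) (d := j) ht (by norm_num)
  rcases H2.Rb.small_ref (F := E) hKS (q := 4) (n := 10) (k := 9) (r := 19) (l := 31) (by simp [H2.Rb.refList]) hcE (low φ B)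
    (hup 19 (by norm_num) h19) (hup 31 (by norm_num) h31) (acts_of_not_red hred) with
    h | h | ⟨f', hf', h⟩ | ⟨τ, f', hf', h⟩ | ⟨Q', hQ', h⟩
  · exfalso
    obtain ⟨s, -, hs, hsd, -⟩ := h
    norm_num at hsd
    exact hs.one_lt.ne' hsd
  · left
    intro t ht
    exact hdv t (sl_dvd (hPE (j := 8) ht) (by omega) (by omega) h)
  · left
    intro t ht
    exact hdv t (sp_dvd hf' (hPE (j := 8) ht) ⟨4, by omega⟩ (by omega) (by omega) h)
  · right
    intro t ht
    exact hdv t (su_dvd (q := 2) (j := 7) (by rw [hE, hF]) hf' ht ⟨3, by omega⟩ (by omega) (by omega) h)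
  · left
    intro t ht
    exact hdv t (om_dvd hQ' (hPE (j := 8) ht) ⟨4, by omega⟩ (by omega) (by omega) (by omega) (Or.inl ⟨5, by omega⟩) h)

end Cfsg.Agent.H410.Rg

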