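import Cfsg.Agent.H410.Rg.Num

/-!
# S3691, residual case C+ : abstract form (helper410)

`PSp_{2m}(2^f)`, one factor contains `Ω⁺_{2m}(2^f)`; `K` = the other factor, `|K| ∼ q^m (q^m + 1) / 2`, with an element of prime order `r`,
`ord_r(2) = 2 f m`.
-/

set_option autoImplicit false

open Subgroup Cfsg Cfsg.Agent.H997.Rg

namespace Cfsg.Agent.H410.Rg

universe u

/-- **C+** -/
theorem cp_abs (hJ : OutJ1.{u}) {K : Type u} [Group K] [Finite K] {F V : Type*} [Field F] [Finite F] [AddCommGroup V]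
    [Module F V] [FiniteDimensional F V] {f m r : ℕ} [CharP F 2] (ρ : K →* Module.End F V)
    (hinj : Function.Injective ρ) (hf : 1 ≤ f) (hm : 3 ≤ m) (hS : SzC m (2 ^ f))
    (hF : Nat.card F = 2 ^ f) (hdim : Module.finrank F V = 2 * m) (h : Fpf 2 ρ) (hr : r.Prime)
    (ha : orderOf (2 : ZMod r) = 2 * (f * m)) (hrK : r ∣ Nat.card K)
    (hd1 : Nat.card K ∣ 2 ^ (f * m) * (2 ^ (f * m) + 1))
    (hd2 : 2 ^ (f * m - 1) * (2 ^ (f * m) + 1) ∣ Nat.card K * f) : False := by
  have ha' : orderOf ((2 : ℕ) : ZMod r) = 2 * (f * m) := by rw [Nat.cast_ofNat]; exact ha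
  have hnt : Nontrivial V := Module.nontrivial_of_finrank_pos (R := F) (by omega)
  have hfm7 := fm_le hm hS hf
  obtain ⟨h1, h2, h3⟩ := card_numC Nat.card_pos.ne' (by omega) (not_dvd_add_one Nat.prime_two (by omega)) hd1 hd2
  have h3' : Nat.card K / 2 ^ (Nat.card K).factorization 2 ≤ 1 * (2 ^ (f * m) + 1) := by
    rw [one_mul]
    exact Nat.le_of_dvd (Nat.succ_pos _) h3
  have hQ : (1 + 1) ^ 2 < 2 ^ (f * m) := by
    calc (1 + 1) ^ 2 < 2 ^ 7 := by norm_num
      _ ≤ 2 ^ (f * m) := Nat.pow_le_pow_right two_pos hfm7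
  have hA0 := szc_A0 hf hm hS
  by_cases hex : f = 1 ∧ m = 8
  · obtain ⟨rfl, rfl⟩ := hex
    have ha2 : orderOf ((2 : ℕ) : ZMod r) = 16 := ha'
    have hno := no_r hr ha2
    refine res_minus hJ ρ hinj Nat.prime_two h hr (by rw [hF, hdim]; exact order_card (f := 1) (by norm_num) (by rw [ha']))
      hrK (by norm_num) ha' hQ h3' (by omega) h2 (by rw [hdim]; exact hA0) ?_ ?_
    · intro h5
      rw [hdim] at h5
      exact (hno (by omega)).elim
    · intro h5
      exact (hno (by omega)).elim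
  have hn1 := szc_n1 hf hm hS hex
  refine res_minus hJ ρ hinj Nat.prime_two h hr (by
      rw [hF, hdim]
      exact order_card hf (by rw [ha']; ring)) hrK (by omega) ha' hQ
    h3' (by omega) h2 (by rw [hdim]; exact hA0) ?_ ?_
  · intro _
    rw [hdim, show 2 * (2 * m) + 2 = 4 * m + 2 by ring]
    exact hn1
  · intro _
    rw [hdim]
    refine lt_of_le_of_lt ?_ hn1
    exact Nat.mul_le_mul le_rfl (Nat.mul_le_mul le_rfl (by omega))

end Cfsg.Agent.H410.Rg
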