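import Cfsg.Agent.H410.Rg.Num

/-!
# S3691, residual case C-, beta: the frame (helper410)

`K ≤ Sp(V)`, `dim V = 2 m`, `|F| = 2 ^ f`; the elements of odd order of `K` are fixed point free, `O_2(K) = 1`, `r ∣ |K|`,
`ord_r(2) = f m = n`, `|K| ∣ 2 ^ n (2 ^ n - 1)`, `|K|_2 ≥ 2 ^ (n - 1) / f_2`. (Adapted from helper920's files `H920/Rg/*`.)
-/

set_option autoImplicit false
set_option linter.unusedSectionVars false

open Cfsg Matrix Module
open Cfsg.Agent.H997.Rg
open Cfsg.Agent.H920.Rg (rep rep_apply rep_injective StmtExt StmtDick two_mul_dvd fac_two_mul_le)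

namespace Cfsg.Agent.H410.Rg

universe u v

variable {F : Type u} {V : Type v} [Field F] [AddCommGroup V] [Module F V]

/-- the frame -/
structure Ct (B : LinearMap.BilinForm F V) (K : Subgroup (V ≃ₗ[F] V)) (f m r : ℕ) : Prop where
  nd : B.Nondegenerate
  iso : ∀ k ∈ K, ∀ u w, B (k u) (k w) = B u w
  rprime : r.Prime
  fpos : 1 ≤ f
  hm : 3 ≤ m
  sz : SzC m (2 ^ f)
  cardF : Nat.card F = 2 ^ f
  dim : finrank F V = 2 * m
  ord : orderOf ((2 : ℕ) : ZMod r) = f * m
  fpf : Fpf 2 (rep K)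
  rK : r ∣ Nat.card K
  dvd : Nat.card K ∣ 2 ^ (f * m) * (2 ^ (f * m) - 1)
  val : f * m - 1 ≤ (Nat.card K).factorization 2 + f.factorization 2
  core : pCore 2 K = ⊥

namespace Ct

variable [Finite F] [FiniteDimensional F V] {B : LinearMap.BilinForm F V} {K : Subgroup (V ≃ₗ[F] V)} {f m r : ℕ}
  (h : Ct B K f m r)
include h

theorem finV : Finite V := Module.finite_of_finite F

theorem finGL : Finite (V ≃ₗ[F] V) := by
  have := h.finV
  exact Finite.of_injective (fun e : V ≃ₗ[F] V => (e : V → V)) DFunLike.coe_injective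

theorem fm7 : 7 ≤ f * m := fm_le h.hm h.sz h.fpos

theorem rne2 : r ≠ 2 := ne_of_orderOf Nat.prime_two h.ord (by have := h.fm7; omega)

theorem charP : CharP F 2 := by
  have hF := Fintype.ofFinite F
  obtain ⟨p, hp⟩ := CharP.exists F
  have hpp : p.Prime := (CharP.char_is_prime_or_zero F p).resolve_right (CharP.char_ne_zero_of_finite F p)
  obtain ⟨n, -, hn⟩ := FiniteField.card F p
  have h1 := h.cardF
  rw [Nat.card_eq_fintype_card, hn] at h1
  have h2 : p ∣ 2 ^ f := by
    rw [← h1]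
    exact dvd_pow_self p n.ne_zero
  have h3 : p = 2 := (Nat.prime_dvd_prime_iff_eq hpp Nat.prime_two).1 (hpp.dvd_of_dvd_pow h2)
  rwa [h3] at hp

theorem lt_r : f * m < r := lt_of_orderOf h.rprime h.rne2 Nat.prime_two h.ord

theorem r5 : 5 ≤ r := by
  have := h.lt_r
  have := h.fm7
  omega

theorem nontrivialV : Nontrivial V := by
  apply Module.nontrivial_of_finrank_pos (R := F)
  rw [h.dim]
  have := h.hm
  omega

/-- elements of odd prime order have no fixed vectors -/
theorem fix_bot {k : V ≃ₗ[F] V} (hk : k ∈ K) (hs : (orderOf k).Prime) (hsp : orderOf k ≠ 2) (v : V) (hv : k v = v) : v = 0 :=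
  h.fpf ⟨k, hk⟩ (by rw [← Subgroup.orderOf_coe]; exact hs) (by rw [← Subgroup.orderOf_coe]; exact hsp) v hv

theorem exists_y : ∃ y : K, orderOf y = r := by
  have := h.finGL
  have := Fact.mk h.rprime
  exact exists_prime_orderOf_dvd_card' r h.rK

theorem cyc : Cyc 2 K := by
  have := h.charP
  have := h.finGL
  have := h.nontrivialV
  exact ⟨fun s hs hs2 hsp P => h.fpf.cyc Nat.prime_two hs hs2 hsp P, Or.inl rfl⟩

/-- the `2'`-part -/
theorem ordCompl_dvd : Nat.card K / 2 ^ (Nat.card K).factorization 2 ∣ 2 ^ (f * m) - 1 := by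
  have := h.finGL
  have h1 := (Nat.ordCompl_dvd (Nat.card K) 2).trans h.dvd
  exact Nat.Coprime.dvd_of_dvd_mul_left (Nat.Coprime.pow_right _ (Nat.coprime_ordCompl Nat.prime_two Nat.card_pos.ne').symm) h1

theorem fac_le_fm : (Nat.card K).factorization 2 ≤ f * m := by
  have := h.finGL
  have hfm := h.fm7
  have h0 : 2 ^ (f * m) - 1 ≠ 0 := by
    have : 1 < 2 ^ (f * m) := Nat.one_lt_pow (by omega) (by norm_num)
    omega
  have h1 := H997.Rg.fac_le (p := 2) h.dvd (mul_ne_zero (pow_ne_zero _ two_ne_zero) h0)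
  rw [Nat.factorization_mul (pow_ne_zero _ two_ne_zero) h0, Finsupp.add_apply, Nat.factorization_pow, Finsupp.smul_apply,
    Nat.prime_two.factorization_self, Nat.factorization_eq_zero_of_not_dvd (not_dvd_sub_one Nat.prime_two (by omega))] at h1
  simpa using h1

theorem fac_lt_r : (Nat.card K).factorization 2 < r := by
  have h1 := h.fac_le_fm
  have h2 := h.lt_r
  omega

theorem nc_dvd {y : K} (hy : orderOf y = r) : nc y ∣ 2 * m := by
  have := h.finGL
  have := h.charP
  have := h.nontrivialV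
  obtain ⟨D, hD0, hD1, hD2, hD3⟩ := h.fpf.nc_dvd Nat.prime_two h.rprime h.rne2 hy
  rw [h.cardF, order_card h.fpos h.ord] at hD3
  rw [h.dim] at hD1
  refine hD2.trans ?_
  obtain ⟨k, rfl⟩ := hD3
  have hm := h.hm
  have h1 : k ≤ 2 := by
    by_contra hcon
    have : m * 3 ≤ m * k := Nat.mul_le_mul_left m (by omega)
    omega
  have h2 : k = 0 ∨ k = 1 ∨ k = 2 := by omega
  rcases h2 with rfl | rfl | rfl
  · omega
  · exact ⟨2, by ring⟩
  · exact ⟨1, by ring⟩

theorem fac_nc {y : K} (hy : orderOf y = r) : (nc y).factorization 2 ≤ (2 * m).factorization 2 :=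
  H997.Rg.fac_le (h.nc_dvd hy) (by have := h.hm; omega)

/-- `⟨y⟩` is centralised by the Fitting subgroup -/
theorem fit {y : K} (hy : orderOf y = r) : y ∈ Subgroup.centralizer (fittingSubgroup K : Set K) := by
  have := h.finGL
  have := h.charP
  have := h.nontrivialV
  exact h.fpf.fit Nat.prime_two h.rprime h.r5 h.rne2 hy
    (by rw [h.core]; intro a ha; rw [Subgroup.mem_bot.1 ha]; exact Commute.one_right y)

theorem pow_val : 2 ^ (f * m - 1) ≤ 2 ^ f.factorization 2 * 2 ^ (Nat.card K).factorization 2 := by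
  rw [← pow_add]
  exact Nat.pow_le_pow_right two_pos (by have := h.val; omega)

theorem hQ : (1 + 1) ^ 2 < 2 ^ (f * m) := by
  have h1 : 2 ^ 7 ≤ 2 ^ (f * m) := Nat.pow_le_pow_right two_pos h.fm7
  omega

theorem M_le : Nat.card K / 2 ^ (Nat.card K).factorization 2 ≤ 1 * (2 ^ (f * m) + 1) := by
  have h1 : 0 < 2 ^ (f * m) - 1 := by
    have := h.hQ
    omega
  have := Nat.le_of_dvd h1 h.ordCompl_dvd
  omega

/-- a bound for the order of `K` contradicts the size -/
theorem small (hex : ¬ (f = 1 ∧ m = 8)) {x : ℕ} (hx : x ≤ 2 ^ (2 * m).factorization 2 * (4 * m + 2))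
    (hK : 2 ^ (Nat.card K).factorization 2 ≤ x) : False := by
  have h1 := szc_n1 h.fpos h.hm h.sz hex
  have h2 := h.pow_val
  have h3 : 2 ^ f.factorization 2 * 2 ^ (Nat.card K).factorization 2 ≤
      2 ^ f.factorization 2 * (2 ^ (2 * m).factorization 2 * (4 * m + 2)) :=
    Nat.mul_le_mul le_rfl (hK.trans hx)
  omega

theorem core_sub {C : Subgroup K} (hC : C.Normal) : pCore 2 C = ⊥ := by
  have h1 := Lib.Cores.map_subtype_pCore 2 hC
  rw [h.core, inf_bot_eq] at h1
  rwa [Subgroup.map_eq_bot_iff_of_injective _ C.subtype_injective] at h1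

/-- odd numbers dividing `|K|` -/
theorem dvd_of_coprime {x k : ℕ} (hx : Nat.Coprime 2 x) (hd : x ∣ k * Nat.card K) : x ∣ k * (2 ^ (f * m) - 1) := by
  have h1 := hd.trans (Nat.mul_dvd_mul_left k h.dvd)
  have h2 : k * (2 ^ (f * m) * (2 ^ (f * m) - 1)) = 2 ^ (f * m) * (k * (2 ^ (f * m) - 1)) := by ring
  rw [h2] at h1
  exact Nat.Coprime.dvd_of_dvd_mul_left (Nat.Coprime.pow_left _ hx).symm h1

theorem fix_y {y : K} (hy : orderOf y = r) (v : V) (hv : (y : V ≃ₗ[F] V) v = v) : v = 0 :=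
  h.fix_bot y.2 (by rw [Subgroup.orderOf_coe, hy]; exact h.rprime) (by rw [Subgroup.orderOf_coe, hy]; exact h.rne2) v hv

/-- the extension field -/
theorem ext_data (hExt : StmtExt.{u, v}) {y g : K} (hy : orderOf y = r) (hg : orderOf g = 2) (hgy : g * y = y * g) :
    (∃ (E : Type v) (_ : Field E) (_ : Fintype E)
      (φ : Subgroup.centralizer ({(y : V ≃ₗ[F] V)} : Set (V ≃ₗ[F] V)) →* GL (Fin 2) E),
      CharP E 2 ∧ Function.Injective φ ∧ Nat.card E = 2 ^ (f * m) ∧
      ∀ z : Subgroup.centralizer ({(y : V ≃ₗ[F] V)} : Set (V ≃ₗ[F] V)), (z : V ≃ₗ[F] V) = y →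
        ∃ c : E, (φ z : Matrix (Fin 2) (Fin 2) E) = Matrix.scalar (Fin 2) c) ∧
    (∀ Γ : Subgroup (V ≃ₗ[F] V), (∀ g ∈ Γ, g * (y : V ≃ₗ[F] V) * g⁻¹ ∈ Subgroup.zpowers (y : V ≃ₗ[F] V)) →
      Nat.card Γ ∣ Nat.card (Γ ⊓ Subgroup.centralizer ({(y : V ≃ₗ[F] V)} : Set (V ≃ₗ[F] V)) :
        Subgroup (V ≃ₗ[F] V)) * m) ∧ Even m := by
  have h1 := hExt F V 2 f m r Nat.prime_two h.cardF h.rprime h.ord h.fpos (by have := h.hm; omega) h.dim
      (y : V ≃ₗ[F] V) (g : V ≃ₗ[F] V) (by rw [Subgroup.orderOf_coe]; exact hy) (h.fix_y hy)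
      (congrArg Subtype.val hgy) (by rw [Subgroup.orderOf_coe]; exact hg)
  exact ⟨h1.1, h1.2.1, h1.2.2 B h.nd (h.iso _ y.2) h.rne2⟩

/-- **`m` odd** -/
theorem false_of_odd (hExt : StmtExt.{u, v}) (hJ : OutJ1.{v}) (hm : ¬ Even m) : False := by
  have := h.finGL
  have := h.charP
  have := h.nontrivialV
  obtain ⟨y, hy⟩ := h.exists_y
  -- the centraliser is a `2'`-group
  have hC : ¬ 2 ∣ Nat.card (Subgroup.centralizer ({y} : Set K)) := by
    intro hd
    obtain ⟨g, hg⟩ := exists_prime_orderOf_dvd_card' (G := Subgroup.centralizer ({y} : Set K)) 2 hd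
    exact hm (h.ext_data hExt hy (g := (g : K)) (by rw [Subgroup.orderOf_coe]; exact hg)
      (Subgroup.mem_centralizer_singleton_iff.1 g.2)).2.2
  have hN : (Nat.card (Subgroup.normalizer (Subgroup.zpowers y : Set K))).factorization 2 ≤ (2 * m).factorization 2 := by
    rw [card_nc, Nat.factorization_mul Nat.card_pos.ne' (nc_pos y).ne', Finsupp.add_apply,
      Nat.factorization_eq_zero_of_not_dvd hC, zero_add]
    exact h.fac_nc hy
  have hres := coreF Nat.prime_two h.rprime h.rne2 h.rne2 h.cyc (d := 2 * m)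
    (fun u hu hup => by rw [← h.dim]; exact h.fpf.nc_le hu hup rfl) y hy (h.fit hy)
    (hout_of hJ Nat.prime_two h.rprime h.rne2 h.cyc h.fac_lt_r) hN
  have hex : ¬ (f = 1 ∧ m = 8) := fun h0 => hm (by rw [h0.2]; decide)
  have hpp : 1 ≤ 2 ^ (2 * m).factorization 2 := Nat.one_le_two_pow
  have hm3 := h.hm
  have hf := h.fpos
  have hv := h.val
  have hfm := h.fm7
  obtain ⟨hs3, hs4, hs6⟩ := h.sz.f
  have hf2 := H920.Rg.two_fac_le (n := f) (by omega)
  have hm2 : (2 * m).factorization 2 ≤ 1 := by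
    rw [H920.Rg.fac_two_mul' (by omega), Nat.factorization_eq_zero_of_not_dvd (n := m)]
    intro h1
    exact hm (even_iff_two_dvd.2 h1)
  -- the bound
  have key : ∀ b : ℕ, 2 * b ≤ f * m → (Nat.card K).factorization 2 ≤ 1 + b → False := by
    intro b hb hvb
    rcases Nat.lt_or_ge m 7 with h7 | h7
    · have hf2' := hs6 (by omega)
      rcases Nat.lt_or_ge m 4 with h4 | h4
      · obtain rfl : m = 3 := by omega
        have := hs3 rfl
        omega
      · have : f * 4 ≤ f * m := Nat.mul_le_mul_left f h4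
        rcases Nat.lt_or_ge m 5 with h5 | h5
        · obtain rfl : m = 4 := by omega
          exact hm (by decide)
        · have : f * 5 ≤ f * m := Nat.mul_le_mul_left f h5
          omega
    · have : f * 7 ≤ f * m := Nat.mul_le_mul_left f h7
      omega
  rcases hres with h1 | ⟨l, hl, hl5, hld, hrl, hpl⟩ | ⟨_, _, h3⟩ | ⟨h2, _⟩ | ⟨b, hb1, hb4, hvb, hdM, hrb, _⟩ |
      ⟨_, b, hbo, hb3, hvb, hdM, hrb, _⟩
  · exact key 0 (by omega) (by omega)
  · exact h.small hex (Nat.mul_le_mul le_rfl (by omega)) hpl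
  · refine h.small hex (x := 2 ^ (2 * m).factorization 2 * 2 ^ 3) (Nat.mul_le_mul le_rfl (by omega)) ?_
    rw [← pow_add]
    exact Nat.pow_le_pow_right two_pos h3
  · exact h2 rfl
  · have h1 := plus_B Nat.prime_two h.ord h.hQ h.M_le hrb (Nat.le_of_dvd (by
      have : 0 < Nat.card K / 2 ^ (Nat.card K).factorization 2 := Nat.ordCompl_pos 2 Nat.card_pos.ne'
      omega) hdM)
    exact key b h1 (by omega)
  · have h1 := plus_C h.ord h.hQ h.M_le hrb (Nat.le_of_dvd (Nat.ordCompl_pos 2 Nat.card_pos.ne') hdM)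
    exact key (2 * b) (by omega) (by omega)

/-- **normal subgroups in the centraliser of `y`** -/
theorem dick_data (hExt : StmtExt.{u, v}) (hDick : StmtDick.{v, v}) {y : K} (hy : orderOf y = r) {C : Subgroup K}
    (hCn : C.Normal) (hCy : ∀ c ∈ C, c * y = y * c) (hpC : 2 ∣ Nat.card C) :
    ∃ C0 : Subgroup C, ((Nat.card C).factorization 2 = 1 ∨ ∃ u ∈ C0, orderOf u = 3 ∧ ∃ t ∈ C0, t * u ≠ u * t) ∧
      ((Nat.card C).factorization 2 ≤ 1 ∨ (2 ^ (Nat.card C).factorization 2) ^ 2 - 1 ∣ 2 * Nat.card C0) ∧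
      (y ∈ C → r * Nat.card C0 ∣ Nat.card C) := by
  have := h.finGL
  have := Fact.mk Nat.prime_two
  obtain ⟨g, hg⟩ := exists_prime_orderOf_dvd_card' (G := C) 2 hpC
  obtain ⟨⟨E, iE, iE', φ, hchar, hφ, hE, hsc⟩, -⟩ := h.ext_data hExt hy (g := (g : K))
    (by rw [Subgroup.orderOf_coe]; exact hg) (hCy _ g.2)
  let ψ : C →* Subgroup.centralizer ({(y : V ≃ₗ[F] V)} : Set (V ≃ₗ[F] V)) :=
    { toFun := fun x => ⟨((x : K) : V ≃ₗ[F] V), Subgroup.mem_centralizer_singleton_iff.2 (congrArg Subtype.val (hCy _ x.2))⟩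
      map_one' := rfl
      map_mul' := fun _ _ => rfl }
  have hψ : Function.Injective ψ := by
    intro a b hab
    have h1 := congrArg Subtype.val hab
    exact Subtype.ext (Subtype.ext h1)
  obtain ⟨C0, hdet, -, hp2, hcard⟩ := hDick E 2 C (φ.comp ψ) (hφ.comp hψ) hpC (h.core_sub hCn)
  refine ⟨C0, hp2 rfl, hcard, fun hyC => ?_⟩
  set y' : C := ⟨y, hyC⟩ with hy'
  have hyo : orderOf y' = r := by rw [← Subgroup.orderOf_coe]; exact hy
  have hcomm : ∀ x : C, x * y' = y' * x := fun x => Subtype.ext (hCy _ x.2)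
  -- powers of `y` in `C0`
  have hsc2 : ∀ z : C, z ∈ C0 → z ∈ Subgroup.zpowers y' → z = 1 := by
    intro z hz hzy
    obtain ⟨c, hc⟩ := hsc (ψ y') rfl
    obtain ⟨i, hi⟩ := Subgroup.mem_zpowers_iff.1 hzy
    -- `z ^ 2 = 1`
    have hz2 : z ^ 2 = 1 := by
      obtain ⟨j, hj⟩ := (isOfFinOrder_of_finite y').mem_powers_iff_mem_zpowers.2 hzy
      have hj' : y' ^ j = z := hj
      have h1 : ((φ.comp ψ) z : Matrix (Fin 2) (Fin 2) E) = Matrix.scalar (Fin 2) (c ^ j) := by
        rw [← hj', map_pow, Units.val_pow_eq_pow_val, map_pow]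
        congr 1
      have h2 := hdet z hz
      rw [h1, Matrix.scalar_apply, Matrix.det_diagonal, Fin.prod_univ_two] at h2
      apply hφ.comp hψ
      apply Units.ext
      change (((φ.comp ψ) (z ^ 2) : GL (Fin 2) E) : Matrix (Fin 2) (Fin 2) E) = (((φ.comp ψ) 1 : GL (Fin 2) E) : Matrix (Fin 2) (Fin 2) E)
      rw [map_pow, Units.val_pow_eq_pow_val, h1, ← map_pow, pow_two, h2, map_one, map_one]
      rfl
    have h3 : orderOf z ∣ r := by
      rw [← hyo, ← hi]
      exact orderOf_dvd_of_mem_zpowers (Subgroup.zpow_mem _ (Subgroup.mem_zpowers y') i)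
    have h4 : orderOf z ∣ 2 := orderOf_dvd_of_pow_eq_one hz2
    have h5 : orderOf z ∣ Nat.gcd r 2 := Nat.dvd_gcd h3 h4
    rw [(Nat.coprime_primes h.rprime Nat.prime_two).2 h.rne2] at h5
    exact orderOf_eq_one_iff.1 (Nat.dvd_one.1 h5)
  let θ : Subgroup.zpowers y' × C0 →* C :=
    { toFun := fun x => (x.1 : C) * (x.2 : C)
      map_one' := by simp
      map_mul' := by
        rintro ⟨a, b⟩ ⟨a', b'⟩
        change (a : C) * a' * ((b : C) * b') = (a : C) * b * ((a' : C) * b')
        have h1 : (b : C) * a' = a' * b := by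
          obtain ⟨i, hi⟩ := Subgroup.mem_zpowers_iff.1 a'.2
          rw [← hi]
          exact (show Commute (b : C) y' from hcomm _).zpow_right i
        calc (a : C) * a' * ((b : C) * b') = a * (a' * b) * b' := by group
          _ = a * (b * a') * b' := by rw [h1]
          _ = _ := by group }
  have hθ : Function.Injective θ := by
    rw [injective_iff_map_eq_one]
    rintro ⟨a, b⟩ hab
    have h1 : (a : C) * b = 1 := hab
    have h2 : (a : C) = (b : C)⁻¹ := eq_inv_of_mul_eq_one_left h1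
    have h3 : (a : C) = 1 := hsc2 _ (by rw [h2]; exact C0.inv_mem b.2) a.2
    rw [h3, one_mul] at h1
    exact Prod.ext (Subtype.ext h3) (Subtype.ext h1)
  have h1 := Subgroup.card_dvd_of_injective θ hθ
  rwa [Nat.card_prod, Nat.card_zpowers, hyo] at h1

/-- the `2`-part of a normal subgroup containing and centralising `y` -/
theorem four_fac_le (hExt : StmtExt.{u, v}) (hDick : StmtDick.{v, v}) {y : K} (hy : orderOf y = r) {C : Subgroup K}
    (hCn : C.Normal) (hCy : ∀ c ∈ C, c * y = y * c) (hyC : y ∈ C) : 4 * (Nat.card C).factorization 2 ≤ f * m := by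
  have := h.finGL
  have hfm := h.fm7
  by_cases hpC : 2 ∣ Nat.card C
  swap
  · rw [Nat.factorization_eq_zero_of_not_dvd hpC]; omega
  obtain ⟨C0, -, h1, h2⟩ := h.dick_data hExt hDick hy hCn hCy hpC
  set v := (Nat.card C).factorization 2 with hv
  rcases h1 with h1 | h1
  · omega
  have h3 := h2 hyC
  have hv0 : 0 < v := Nat.prime_two.factorization_pos_of_dvd Nat.card_pos.ne' hpC
  have hcop : Nat.Coprime 2 (r * ((2 ^ v) ^ 2 - 1)) := by
    refine Nat.Coprime.mul_right ((Nat.coprime_primes Nat.prime_two h.rprime).2 h.rne2.symm) ?_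
    rw [← pow_mul]
    exact coprime_pow_sub_one Nat.prime_two (by omega)
  have h4 : r * ((2 ^ v) ^ 2 - 1) ∣ 2 * Nat.card K := by
    refine (Nat.mul_dvd_mul_left r h1).trans ?_
    have h5 : r * (2 * Nat.card C0) = 2 * (r * Nat.card C0) := by ring
    rw [h5]
    exact Nat.mul_dvd_mul_left 2 (h3.trans (Subgroup.card_subgroup_dvd_card C))
  have h5 := h.dvd_of_coprime hcop h4
  obtain ⟨-, k, hk⟩ := two_mul_dvd Nat.prime_two (e := f * m) (by omega) ((Dvd.intro_left r rfl).trans h5)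
  have hk2 : 2 ≤ k := by
    by_contra hcon
    have h6 : k = 0 ∨ k = 1 := by omega
    rcases h6 with rfl | rfl
    · omega
    · rw [hk, mul_one, mul_comm 2 v, pow_mul] at h5
      have h7 : 0 < (2 ^ v) ^ 2 - 1 := by
        have h8 : 1 < 2 ^ v := Nat.one_lt_pow (by omega) (by norm_num)
        have h9 : 1 < (2 ^ v) ^ 2 := Nat.one_lt_pow two_ne_zero h8
        omega
      have h8 := Nat.dvd_of_mul_dvd_mul_right h7 h5
      exact h.rne2 ((Nat.prime_dvd_prime_iff_eq h.rprime Nat.prime_two).1 h8)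
  have h6 : 2 * v * 2 ≤ 2 * v * k := Nat.mul_le_mul_left _ hk2
  omega

/-- **`⟨y⟩` is not normal** -/
theorem false_of_normal (hExt : StmtExt.{u, v}) (hDick : StmtDick.{v, v}) (hm : Even m) {y : K} (hy : orderOf y = r)
    (hn : (Subgroup.zpowers y).Normal) : False := by
  have := h.finGL
  have hfm := h.fm7
  have hm3 := h.hm
  set C : Subgroup K := Subgroup.centralizer ({y} : Set K) with hC
  have hCe : C = Subgroup.centralizer (Subgroup.zpowers y : Set K) := by
    rw [hC, Subgroup.zpowers_eq_closure, Subgroup.centralizer_closure]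
  have hCn : C.Normal := by
    rw [hCe]
    exact Subgroup.normal_centralizer
  have hCy : ∀ c ∈ C, c * y = y * c := fun c hc => (Subgroup.mem_centralizer_singleton_iff.1 hc)
  have hyC : y ∈ C := Subgroup.mem_centralizer_singleton_iff.2 rfl
  have key : 4 * (Nat.card K).factorization 2 ≤ f * m + 4 * m.factorization 2 := by
    by_cases hpC : 2 ∣ Nat.card C
    · -- `|K|` divides `|C| m`
      obtain ⟨g, hg⟩ := exists_prime_orderOf_dvd_card' (G := C) 2 hpC
      obtain ⟨-, h1, -⟩ := h.ext_data hExt hy (g := (g : K)) (by rw [Subgroup.orderOf_coe]; exact hg) (hCy _ g.2)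
      have h2 := h1 K (fun k hk => by
        have h3 := hn.conj_mem y (Subgroup.mem_zpowers y) ⟨k, hk⟩
        obtain ⟨i, hi⟩ := Subgroup.mem_zpowers_iff.1 h3
        exact Subgroup.mem_zpowers_iff.2 ⟨i, congrArg Subtype.val hi⟩)
      have h3 : (K ⊓ Subgroup.centralizer ({(y : V ≃ₗ[F] V)} : Set (V ≃ₗ[F] V)) : Subgroup (V ≃ₗ[F] V)) = C.map K.subtype := by
        ext x
        constructor
        · rintro ⟨hx, hx'⟩
          refine ⟨⟨x, hx⟩, ?_, rfl⟩
          exact Subgroup.mem_centralizer_singleton_iff.2 (Subtype.ext (Subgroup.mem_centralizer_singleton_iff.1 hx'))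
        · rintro ⟨z, hz, rfl⟩
          exact ⟨z.2, Subgroup.mem_centralizer_singleton_iff.2 (congrArg Subtype.val (hCy z hz))⟩
      rw [h3, Subgroup.card_map_of_injective K.subtype_injective] at h2
      have h4 := fac_le (p := 2) h2 (mul_ne_zero Nat.card_pos.ne' (by omega))
      rw [Nat.factorization_mul Nat.card_pos.ne' (by omega), Finsupp.add_apply] at h4
      have h5 := h.four_fac_le hExt hDick hy hCn hCy hyC
      omega
    · have h1 : Nat.card K = Nat.card C * nc y := by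
        rw [← card_nc, Subgroup.normalizer_eq_top_iff.2 hn, Subgroup.card_top]
      have h2 := h.fac_nc hy
      have h3 := fac_two_mul_le Nat.prime_two (n := m) (by omega)
      rw [h1, Nat.factorization_mul Nat.card_pos.ne' (nc_pos y).ne', Finsupp.add_apply,
        Nat.factorization_eq_zero_of_not_dvd hpC, zero_add]
      omega
  exact num_smallC h.fpos h.hm hm h.sz h.val key

end Ct

end Cfsg.Agent.H410.Rg
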