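import Cfsg.Agent.H410.Rg.Ct

/-!
# S3691, residual case C-, beta: `m` even, components (helper410)

Adapted from helper920's `H920/Rg/{CaseB,CaseC,Main}.lean`.
-/

set_option autoImplicit false
set_option linter.unusedSectionVars false

open Cfsg Matrix Module
open Cfsg.Agent.H997.Rg
open Cfsg.Agent.H920.Rg (rep rep_apply rep_injective StmtExt StmtDick two_mul_dvd fac_two_mul_le)
open Cfsg.Agent.SignalizersComponents.Components

namespace Cfsg.Agent.H410.Rg

universe u v

variable {F : Type u} {V : Type v} [Field F] [AddCommGroup V] [Module F V]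

namespace Ct

variable [Finite F] [FiniteDimensional F V] {B : LinearMap.BilinForm F V} {K : Subgroup (V ≃ₗ[F] V)} {f m r : ℕ}
  (h : Ct B K f m r)
include h

theorem cent_normal {L : Subgroup K} (hLn : L.Normal) : (Subgroup.centralizer (L : Set K)).Normal :=
  Subgroup.normal_centralizer

theorem cent_comm {L : Subgroup K} {y : K} (hyL : y ∈ L) : ∀ c ∈ Subgroup.centralizer (L : Set K), c * y = y * c :=
  fun _ hc => (Subgroup.mem_centralizer_iff.1 hc y hyL).symm

/-- the centraliser of `L` -/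
theorem cent_two (hExt : StmtExt.{u, v}) (hDick : StmtDick.{v, v}) {y : K} (hy : orderOf y = r) {L : Subgroup K}
    (hLn : L.Normal) (hyL : y ∈ L) (h3 : 3 ∣ Nat.card (↥L ⧸ Subgroup.center ↥L)) :
    (Nat.card (Subgroup.centralizer (L : Set K))).factorization 2 ≤ 1 := by
  have := h.finGL
  by_cases hd : 2 ∣ Nat.card (Subgroup.centralizer (L : Set K))
  swap
  · rw [Nat.factorization_eq_zero_of_not_dvd hd]; exact Nat.zero_le 1
  obtain ⟨C0, h1, -, -⟩ := h.dick_data hExt hDick hy (h.cent_normal hLn) (h.cent_comm hyL) hd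
  rcases h1 with h1 | ⟨u, -, hu, t, -, htu⟩
  · rw [h1]
  · exfalso
    have huL := mem_of_dvd Nat.prime_three (h.cyc.cyc 3 Nat.prime_three (by norm_num) (by norm_num)) hLn h3
      (z := (u : K)) (by rw [Subgroup.orderOf_coe]; exact hu)
    apply htu
    apply Subtype.ext
    exact (Subgroup.mem_centralizer_iff.1 t.2 (u : K) huL).symm

/-- the `2`-part of `K` -/
theorem fac_le_cent {L : Subgroup K} {n : ℕ} (hn : n ≠ 0)
    (hd : Nat.card K ∣ Nat.card (Subgroup.centralizer (L : Set K)) * n) :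
    (Nat.card K).factorization 2 ≤ (Nat.card (Subgroup.centralizer (L : Set K))).factorization 2 + n.factorization 2 := by
  have := h.finGL
  have h1 := fac_le (p := 2) hd (mul_ne_zero Nat.card_pos.ne' hn)
  rwa [Nat.factorization_mul Nat.card_pos.ne' hn, Finsupp.add_apply] at h1

theorem card_S_dvd (L : Subgroup K) : Nat.card (↥L ⧸ Subgroup.center ↥L) ∣ Nat.card K := by
  have := h.finGL
  exact (Subgroup.card_quotient_dvd_card _).trans (Subgroup.card_subgroup_dvd_card L)

theorem four_le_fac (hm : Even m) : 4 ≤ 2 ^ (2 * m).factorization 2 := by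
  have hm3 := h.hm
  have h10 : 2 ^ 2 ∣ 2 * m := by
    obtain ⟨k, hk⟩ := hm
    exact ⟨k, by rw [hk]; ring⟩
  have h11 := (Nat.prime_two.pow_dvd_iff_le_factorization (by omega)).1 h10
  calc 4 = 2 ^ 2 := by norm_num
    _ ≤ _ := Nat.pow_le_pow_right two_pos h11

/-- **`L / Z(L) = L₂(l)`, `l` an odd prime** -/
theorem false_of_psl (hExt : StmtExt.{u, v}) (hDick : StmtDick.{v, v}) (hm : Even m) {y : K} (hy : orderOf y = r)
    {L : Subgroup K} (hLn : L.Normal) (hyL : y ∈ L) (hyC : y ∉ Subgroup.centralizer (L : Set K))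
    (hZ : Subgroup.center (↥L ⧸ Subgroup.center ↥L) = ⊥)
    (hd : Nat.card K ∣ Nat.card (Subgroup.centralizer (L : Set K)) * Nat.card (MulAut (↥L ⧸ Subgroup.center ↥L)))
    {E : Type} [Field E] [Fintype E] (hpr : (Fintype.card E).Prime) (hne : Fintype.card E ≠ 2) (h5 : 5 ≤ Fintype.card E)
    (e : ↥L ⧸ Subgroup.center ↥L ≃* ProjectiveSpecialLinearGroup (Fin 2) E) : False := by
  have := h.finGL
  have := h.charP
  have := h.nontrivialV
  set l := Fintype.card E with hl
  obtain ⟨h1, h2, _⟩ := psl2_data hZ (l := l) (b := 1) hpr (by rw [pow_one]) (by rw [pow_one]; omega) e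
  rw [pow_one] at h1 h2
  rw [one_mul] at h1
  have hm4 := h.hm
  have hl2 : l ≠ 2 := by omega
  have hodd : Odd l := hpr.odd_of_ne_two hl2
  have hfac : l ^ 2 - 1 = (l - 1) * (l + 1) := by
    have := Nat.sq_sub_sq l 1
    rw [one_pow] at this
    rw [this, mul_comm]
  have hg : Nat.gcd 2 (l - 1) = 2 := by
    apply Nat.gcd_eq_left
    obtain ⟨k, hk⟩ := hodd
    exact ⟨k, by omega⟩
  rw [hg] at h2
  have hl0 : l ≠ 0 := by omega
  have hp1 : (l - 1) * (l + 1) ≠ 0 := mul_ne_zero (by omega) (by omega)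
  -- `l ≤ 4 m + 1`
  have hlm : l ≤ 4 * m + 1 := by
    obtain ⟨u, v, i, hu, huv, hi⟩ := exists_split hpr (cyc_sub hpr (h.cyc.cyc l hpr hl2 hne) L) hl.symm e
    have hu' : orderOf (u : K) = l := by rw [Subgroup.orderOf_coe]; exact hu
    have h7 : (v : K) * u * (v : K)⁻¹ = (u : K) ^ i := congrArg Subtype.val huv
    have h8 := Nat.le_of_dvd (nc_pos _) (dvd_nc hu' h7)
    have h9 := h.fpf.nc_le hpr hne hu'
    rw [h.dim] at h9
    omega
  -- the automorphism group
  have hA : (Nat.card (MulAut (↥L ⧸ Subgroup.center ↥L))).factorization 2 = ((l - 1) * (l + 1)).factorization 2 := by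
    rw [h1, hfac, Nat.factorization_mul hl0 hp1, Finsupp.add_apply, Nat.factorization_eq_zero_of_not_dvd, zero_add]
    intro hd
    exact hne ((Nat.prime_dvd_prime_iff_eq Nat.prime_two hpr).1 hd).symm
  have hv := h.fac_le_cent (L := L) (n := Nat.card (MulAut (↥L ⧸ Subgroup.center ↥L)))
    (by rw [h1, hfac]; exact mul_ne_zero hl0 hp1) hd
  rw [hA] at hv
  obtain ⟨x, x', hxy, hx2, hx'⟩ := prod_bound (p := 2) Nat.prime_two (l := l) (by omega)
  rw [hxy] at hv
  have h3S : 3 ∣ Nat.card (↥L ⧸ Subgroup.center ↥L) := by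
    have h10 : 3 ∣ Nat.card (↥L ⧸ Subgroup.center ↥L) * 2 := by
      rw [h2, hfac]
      have h11 : l % 3 = 0 ∨ l % 3 = 1 ∨ l % 3 = 2 := by omega
      rcases h11 with h11 | h11 | h11
      · exact (Nat.dvd_of_mod_eq_zero h11).mul_right _
      · exact (Dvd.dvd.mul_right (show 3 ∣ l - 1 by omega) _).mul_left _
      · exact (Dvd.dvd.mul_left (show 3 ∣ l + 1 by omega) _).mul_left _
    exact Nat.Coprime.dvd_of_dvd_mul_right (by norm_num) h10
  have hC := h.cent_two hExt hDick hy hLn hyL h3S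
  by_cases hex : f = 1 ∧ m = 8
  · -- the exception: `r = 17 = l`, but 9 divides `|L|`
    obtain ⟨hf, hm8⟩ := hex
    subst hf hm8
    have hK : ∀ x : ℕ, Nat.Coprime 2 x → x ∣ Nat.card (↥L ⧸ Subgroup.center ↥L) → x ∣ 255 := by
      intro x hx hxd
      have h10 := h.dvd_of_coprime hx (k := 1) (by rw [one_mul]; exact hxd.trans (h.card_S_dvd L))
      norm_num at h10
      exact h10
    have hlS : l ∣ Nat.card (↥L ⧸ Subgroup.center ↥L) := by
      have h10 : l ∣ Nat.card (↥L ⧸ Subgroup.center ↥L) * 2 := by rw [h2]; exact dvd_mul_right _ _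
      exact Nat.Coprime.dvd_of_dvd_mul_right ((Nat.coprime_primes hpr Nat.prime_two).2 hl2) h10
    have hl255 := hK l ((Nat.coprime_primes Nat.prime_two hpr).2 hl2.symm) hlS
    have hr255 := hK r ((Nat.coprime_primes Nat.prime_two h.rprime).2 h.rne2.symm) (dvd_card_quot h.rprime hy hyL hyC)
    have hlc : l = 5 ∨ l = 17 := by
      have h10 : l ∣ 3 * (5 * 17) := by norm_num; exact hl255
      rcases (Nat.Prime.dvd_mul hpr).1 h10 with h11 | h11
      · have := Nat.le_of_dvd (by norm_num) h11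
        omega
      · rcases (Nat.Prime.dvd_mul hpr).1 h11 with h12 | h12
        · exact Or.inl ((Nat.prime_dvd_prime_iff_eq hpr (by norm_num)).1 h12)
        · exact Or.inr ((Nat.prime_dvd_prime_iff_eq hpr (by norm_num)).1 h12)
    have hr17 : r = 17 := by
      have hr8 := h.lt_r
      have h10 : r ∣ 3 * (5 * 17) := by norm_num; exact hr255
      rcases (Nat.Prime.dvd_mul h.rprime).1 h10 with h11 | h11
      · have := Nat.le_of_dvd (by norm_num) h11
        omega
      · rcases (Nat.Prime.dvd_mul h.rprime).1 h11 with h12 | h12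
        · have := Nat.le_of_dvd (by norm_num) h12
          omega
        · exact (Nat.prime_dvd_prime_iff_eq h.rprime (by norm_num)).1 h12
    rcases hlc with h5 | h17
    · rw [h5] at h2
      have h10 : r ∣ 120 := by
        have h11 := (dvd_card_quot h.rprime hy hyL hyC).mul_right 2
        rw [h2] at h11
        norm_num at h11
        exact h11
      rw [hr17] at h10
      norm_num at h10
    · rw [h17] at h2
      have h10 : 9 ∣ Nat.card (↥L ⧸ Subgroup.center ↥L) := by
        have h11 : 9 ∣ Nat.card (↥L ⧸ Subgroup.center ↥L) * 2 := by rw [h2]; norm_num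
        exact Nat.Coprime.dvd_of_dvd_mul_right (by norm_num) h11
      have h11 := hK 9 (by norm_num) h10
      norm_num at h11
  · refine h.small hex (x := 4 * (4 * m + 2)) (Nat.mul_le_mul (h.four_le_fac hm) le_rfl) ?_
    calc 2 ^ (Nat.card K).factorization 2 ≤ 2 ^ (1 + x + x') := Nat.pow_le_pow_right two_pos (by omega)
      _ = 2 * 2 ^ x * 2 ^ x' := by rw [pow_add, pow_add, pow_one]
      _ ≤ 2 * 2 * (4 * m + 2) := Nat.mul_le_mul (Nat.mul_le_mul le_rfl (Nat.le_of_dvd two_pos hx2)) (by omega)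
      _ = _ := by ring

/-- **`L / Z(L) = J₁`** -/
theorem false_of_j1 (hExt : StmtExt.{u, v}) (hDick : StmtDick.{v, v}) (hJ : OutJ1.{v}) (hm : Even m) {y : K}
    (hy : orderOf y = r) {L : Subgroup K} (hLn : L.Normal) (hyL : y ∈ L) (hsimple : IsSimpleGroup (↥L ⧸ Subgroup.center ↥L))
    (hZ : Subgroup.center (↥L ⧸ Subgroup.center ↥L) = ⊥)
    (hd : Nat.card K ∣ Nat.card (Subgroup.centralizer (L : Set K)) * Nat.card (MulAut (↥L ⧸ Subgroup.center ↥L)))
    (hS : IsJ1 (↥L ⧸ Subgroup.center ↥L)) : False := by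
  have := h.finGL
  have hm4 := h.hm
  have h1 : Nat.card (↥L ⧸ Subgroup.center ↥L) = 175560 := hS.2
  have h2 := card_mulAut hZ
  rw [hJ _ hS, mul_one, h1] at h2
  have hC := h.cent_two hExt hDick hy hLn hyL (by rw [h1]; norm_num)
  have hv := h.fac_le_cent (L := L) (n := Nat.card (MulAut (↥L ⧸ Subgroup.center ↥L))) (by rw [h2]; norm_num) hd
  rw [h2] at hv
  have h3 : (175560 : ℕ).factorization 2 ≤ 3 := fac_le_of Nat.prime_two (by norm_num) (by norm_num)
  by_cases hex : f = 1 ∧ m = 8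
  · obtain ⟨hf, hm8⟩ := hex
    subst hf hm8
    have h4 := h.val
    have h5 : (1 : ℕ).factorization 2 ≤ 0 := fac_le_of Nat.prime_two (by norm_num) (by norm_num)
    omega
  · refine h.small hex (x := 4 * (4 * m + 2)) (Nat.mul_le_mul (h.four_le_fac hm) le_rfl) ?_
    calc 2 ^ (Nat.card K).factorization 2 ≤ 2 ^ 4 := Nat.pow_le_pow_right two_pos (by omega)
      _ = 16 := by norm_num
      _ ≤ _ := by omega

/-- **`L / Z(L) = Sz(2 ^ b)`** -/
theorem false_of_sz (hExt : StmtExt.{u, v}) (hDick : StmtDick.{v, v}) (hm : Even m) {y : K}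
    (hy : orderOf y = r) {L : Subgroup K} (hLn : L.Normal) (hyL : y ∈ L) (hyC : y ∉ Subgroup.centralizer (L : Set K))
    (hZ : Subgroup.center (↥L ⧸ Subgroup.center ↥L) = ⊥)
    (hd : Nat.card K ∣ Nat.card (Subgroup.centralizer (L : Set K)) * Nat.card (MulAut (↥L ⧸ Subgroup.center ↥L)))
    (hd2 : Nat.card (↥L ⧸ Subgroup.center ↥L) * Nat.card (Subgroup.centralizer (L : Set K)) ∣ Nat.card K)
    (hS : IsSuzuki (↥L ⧸ Subgroup.center ↥L)) : False := by
  have := h.finGL
  have hm3 := h.hm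
  have hm4 : 4 ≤ m := by
    obtain ⟨k, hk⟩ := hm
    omega
  have hfm := h.fm7
  obtain ⟨b, hbo, hb3, hc, ho⟩ := suz_data hZ hS
  set x := ((2 ^ b) ^ 2 + 1) * (2 ^ b - 1) with hx
  have hb1 : 1 ≤ 2 ^ b := Nat.one_le_two_pow
  have hodd1 : ¬ 2 ∣ x := by
    intro h2
    have he : 2 ∣ 2 ^ b := dvd_pow_self 2 (by omega)
    rcases (Nat.Prime.dvd_mul Nat.prime_two).1 h2 with h3 | h3
    · have h4 : 2 ∣ (2 ^ b) ^ 2 := dvd_pow he two_ne_zero
      omega
    · omega
  have hx0 : x ≠ 0 := fun h0 => hodd1 (by rw [h0]; exact dvd_zero 2)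
  have hxcop : Nat.Coprime 2 x := (Nat.Prime.coprime_iff_not_dvd Nat.prime_two).2 hodd1
  have hcS : Nat.card (↥L ⧸ Subgroup.center ↥L) = (2 ^ b) ^ 2 * x := by rw [hc, hx]; ring
  have hrx : r ∣ x := by
    have h1 := dvd_card_quot h.rprime hy hyL hyC
    rw [hcS] at h1
    refine ((Nat.Prime.dvd_mul h.rprime).1 h1).resolve_left fun h2 => ?_
    exact h.rne2 ((Nat.prime_dvd_prime_iff_eq h.rprime Nat.prime_two).1
      (h.rprime.dvd_of_dvd_pow (h.rprime.dvd_of_dvd_pow h2)))
  have h0' : 2 ^ (b * 4) - 1 = x * (2 ^ b + 1) := by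
    have h1 := Nat.sq_sub_sq ((2 ^ b) ^ 2) 1
    have h2 := Nat.sq_sub_sq (2 ^ b) 1
    rw [one_pow] at h1 h2
    rw [show b * 4 = b * 2 * 2 by ring, pow_mul, pow_mul, h1, h2, hx]
    ring
  have hxK : x ∣ 2 ^ (f * m) - 1 := by
    have h1 := h.dvd_of_coprime hxcop (k := 1) (by
      rw [one_mul]
      exact (Dvd.intro_left _ hcS.symm).trans (h.card_S_dvd L))
    rwa [one_mul] at h1
  have h1le : 4 * b ≤ f * m := plus_C h.ord (C := 1) (M := 2 ^ (f * m) - 1) h.hQ (by omega) hrx
    (Nat.le_of_dvd (by have := h.hQ; omega) hxK)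
  have hfmb : f * m ∣ b * 4 := by
    rw [← h.ord]
    apply orderOf_dvd_of_dvd Nat.prime_two
    rw [h0']
    exact hrx.mul_right _
  have hb4 : 4 * b = f * m := le_antisymm h1le (by rw [mul_comm 4]; exact Nat.le_of_dvd (by omega) hfmb)
  -- the centraliser
  set v := (Nat.card (Subgroup.centralizer (L : Set K))).factorization 2 with hv
  have hvb : 2 * v ≤ b := by
    by_cases hpC : 2 ∣ Nat.card (Subgroup.centralizer (L : Set K))
    swap
    · rw [hv, Nat.factorization_eq_zero_of_not_dvd hpC]; omega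
    obtain ⟨C0, -, h1, -⟩ := h.dick_data hExt hDick hy (h.cent_normal hLn) (h.cent_comm hyL) hpC
    rcases h1 with h1 | h1
    · omega
    · have hv0 : 0 < v := Nat.prime_two.factorization_pos_of_dvd Nat.card_pos.ne' hpC
      have hcop : Nat.Coprime 2 ((2 ^ v) ^ 2 - 1) := by
        rw [← pow_mul]
        exact coprime_pow_sub_one Nat.prime_two (by omega)
      have h2 : (2 ^ v) ^ 2 - 1 ∣ Nat.card (Subgroup.centralizer (L : Set K)) :=
        (Nat.Coprime.dvd_of_dvd_mul_left hcop.symm h1).trans (Subgroup.card_subgroup_dvd_card C0)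
      have h3 : x * ((2 ^ v) ^ 2 - 1) ∣ 2 ^ (f * m) - 1 := by
        have h4 := h.dvd_of_coprime (Nat.Coprime.mul_right hxcop hcop) (k := 1) (by
          rw [one_mul]
          refine (Nat.mul_dvd_mul ?_ h2).trans hd2
          exact Dvd.intro_left _ hcS.symm)
        rwa [one_mul] at h4
      rw [← hb4, mul_comm 4 b, h0'] at h3
      have h4 := Nat.dvd_of_mul_dvd_mul_left (Nat.pos_of_ne_zero hx0) h3
      have h5 := Nat.le_of_dvd (by omega) h4
      have h6 : 2 ^ (v * 2) < 2 ^ (b + 1) := by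
        rw [pow_mul, pow_succ 2 b]
        have h7 : 2 ^ 3 ≤ 2 ^ b := Nat.pow_le_pow_right two_pos hb3
        omega
      have h7 := (Nat.pow_lt_pow_iff_right (by norm_num)).1 h6
      omega
  -- the automorphism group
  have hA : Nat.card (MulAut (↥L ⧸ Subgroup.center ↥L)) = (2 ^ b) ^ 2 * x * b := by rw [card_mulAut hZ, ho, hcS]
  have hq : (2 ^ b) ^ 2 ≠ 0 := by positivity
  have hb0 : b ≠ 0 := by omega
  have hA0 : (2 ^ b) ^ 2 * x * b ≠ 0 := mul_ne_zero (mul_ne_zero hq hx0) hb0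
  have hKv := h.fac_le_cent (L := L) (n := Nat.card (MulAut (↥L ⧸ Subgroup.center ↥L))) (by rw [hA]; exact hA0) hd
  rw [hA, Nat.factorization_mul (mul_ne_zero hq hx0) hb0, Nat.factorization_mul hq hx0, Finsupp.add_apply, Finsupp.add_apply,
    Nat.factorization_eq_zero_of_not_dvd hodd1, Nat.factorization_eq_zero_of_not_dvd (n := b) (fun h7 =>
      (Nat.not_even_iff_odd.2 hbo) (even_iff_two_dvd.2 h7)), ← pow_mul, Nat.factorization_pow, Finsupp.smul_apply,
    Nat.prime_two.factorization_self] at hKv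
  have hval := h.val
  refine num_szC h.fpos hm4 hb4 hb3 hvb ?_
  simp only [smul_eq_mul, mul_one, add_zero] at hKv
  omega

/-- **`L / Z(L) = L₂(2 ^ b)`** -/
theorem false_of_psl_two (hm : Even m) {y : K}
    (hy : orderOf y = r) {L : Subgroup K} (hLn : L.Normal) (hyL : y ∈ L) (hyC : y ∉ Subgroup.centralizer (L : Set K))
    (hZ : Subgroup.center (↥L ⧸ Subgroup.center ↥L) = ⊥)
    (hd : Nat.card K ∣ Nat.card (Subgroup.centralizer (L : Set K)) * Nat.card (MulAut (↥L ⧸ Subgroup.center ↥L)))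
    (hd2 : Nat.card (↥L ⧸ Subgroup.center ↥L) * Nat.card (Subgroup.centralizer (L : Set K)) ∣ Nat.card K)
    {E : Type} [Field E] [Fintype E] {b : ℕ} (hE : Fintype.card E = 2 ^ b) (h4 : 4 ≤ 2 ^ b)
    (e : ↥L ⧸ Subgroup.center ↥L ≃* ProjectiveSpecialLinearGroup (Fin 2) E) : False := by
  have := h.finGL
  have := h.finV
  have hfm := h.fm7
  have hm3 := h.hm
  obtain ⟨h1, h2, _⟩ := psl2_data hZ Nat.prime_two hE h4 e
  have hb : b ≠ 0 := by rintro rfl; rw [pow_zero] at h4; omega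
  have hcop : Nat.Coprime 2 ((2 ^ b) ^ 2 - 1) := by
    rw [← pow_mul]
    exact coprime_pow_sub_one Nat.prime_two (by omega)
  have hg : Nat.gcd 2 (2 ^ b - 1) = 1 := coprime_pow_sub_one Nat.prime_two hb
  rw [hg, mul_one] at h2
  have hq0 : 2 ^ b ≠ 0 := pow_ne_zero _ two_ne_zero
  have hsq0 : (2 ^ b) ^ 2 - 1 ≠ 0 := by
    have : 4 ^ 2 ≤ (2 ^ b) ^ 2 := Nat.pow_le_pow_left h4 2
    omega
  -- `2 b = f m`
  have hb2 : 2 * b = f * m := by
    have hrS : r ∣ (2 ^ b) ^ 2 - 1 := by
      have h3 := dvd_card_quot h.rprime hy hyL hyC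
      rw [h2] at h3
      refine ((Nat.Prime.dvd_mul h.rprime).1 h3).resolve_left fun h5 => ?_
      exact h.rne2 ((Nat.prime_dvd_prime_iff_eq h.rprime Nat.prime_two).1 (h.rprime.dvd_of_dvd_pow h5))
    have h3 : f * m ∣ b * 2 := by
      rw [← h.ord]
      apply orderOf_dvd_of_dvd Nat.prime_two
      rwa [pow_mul]
    have h5 : (2 ^ b) ^ 2 - 1 ∣ 2 * Nat.card K := by
      have h6 : (2 ^ b) ^ 2 - 1 ∣ Nat.card (↥L ⧸ Subgroup.center ↥L) := by rw [h2]; exact dvd_mul_left _ _
      exact (h6.trans (h.card_S_dvd L)).mul_left 2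
    have h6 := (two_mul_dvd Nat.prime_two (e := f * m) (by omega) (h.dvd_of_coprime hcop h5)).2
    exact Nat.dvd_antisymm h6 (by rwa [mul_comm 2])
  -- the centraliser is trivial
  have hC : Subgroup.centralizer (L : Set K) = ⊥ := by
    have h5 : IsPGroup 2 (Subgroup.centralizer (L : Set K)) := by
      set n := Nat.card (Subgroup.centralizer (L : Set K)) with hn
      set c' := n / 2 ^ n.factorization 2 with hc'
      have hn0 : n ≠ 0 := Nat.card_pos.ne'
      have h6 : 2 ^ n.factorization 2 * c' = n := Nat.ordProj_mul_ordCompl_eq_self n 2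
      have h7 : Nat.Coprime 2 c' := Nat.coprime_ordCompl Nat.prime_two hn0
      have h8 : ((2 ^ b) ^ 2 - 1) * c' ∣ 1 * Nat.card K := by
        rw [one_mul]
        refine (Nat.mul_dvd_mul ?_ ?_).trans hd2
        · rw [h2]; exact dvd_mul_left _ _
        · exact Dvd.intro_left _ h6
      have h9 := h.dvd_of_coprime (Nat.Coprime.mul_right hcop h7) h8
      have h10 : 1 * (2 ^ (f * m) - 1) = ((2 ^ b) ^ 2 - 1) * 1 := by
        rw [one_mul, mul_one, ← hb2, mul_comm 2 b, pow_mul]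
      rw [h10] at h9
      have h11 := Nat.dvd_of_mul_dvd_mul_left (Nat.pos_of_ne_zero hsq0) h9
      have h12 : c' = 1 := Nat.dvd_one.1 h11
      rw [h12, mul_one] at h6
      exact IsPGroup.of_card h6.symm
    have h6 := Lib.Cores.le_pCore (h.cent_normal hLn) h5
    rw [h.core] at h6
    exact le_bot_iff.1 h6
  have hKv := h.fac_le_cent (L := L) (n := Nat.card (MulAut (↥L ⧸ Subgroup.center ↥L)))
    (by rw [h1]; exact mul_ne_zero hb (mul_ne_zero hq0 hsq0)) hd
  rw [h1, hC, Subgroup.card_bot, Nat.factorization_one, Finsupp.zero_apply, zero_add,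
    Nat.factorization_mul hb (mul_ne_zero hq0 hsq0),
    Nat.factorization_mul hq0 hsq0, Finsupp.add_apply, Finsupp.add_apply,
    Nat.factorization_eq_zero_of_not_dvd ((Nat.Prime.coprime_iff_not_dvd Nat.prime_two).1 hcop),
    Nat.factorization_pow, Finsupp.smul_apply, Nat.prime_two.factorization_self] at hKv
  simp only [smul_eq_mul, mul_one, add_zero] at hKv
  have hval := h.val
  exact num_pslC h.fpos h.hm hm h.sz hb2 (by omega)

/-- **There is no frame.** -/
theorem contra (hExt : StmtExt.{u, v}) (hDick : StmtDick.{v, v}) (hJ : OutJ1.{v}) : False := by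
  have := h.finGL
  by_cases hm : Even m
  swap
  · exact h.false_of_odd hExt hJ hm
  obtain ⟨y, hy⟩ := h.exists_y
  rcases coreS Nat.prime_two h.rprime h.rne2 h.rne2 h.cyc y hy (h.fit hy)
    (hout_of hJ Nat.prime_two h.rprime h.rne2 h.cyc h.fac_lt_r) with hn | ⟨L, hL, hLn, hyL, hyC, hS, hd, hd2⟩
  · exact h.false_of_normal hExt hDick hm hy hn
  have hsimple : IsSimpleGroup (↥L ⧸ Subgroup.center ↥L) := hL.2.2
  have hZ := center_bot (not_comm_of (quasisimple_quot_not_solvable hL.2))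
  rcases hS with hS | hS | hS | hS | hS
  · obtain ⟨E, iE, iE', b, hE, h4, ⟨e⟩⟩ := hS
    exact h.false_of_psl_two hm hy hLn hyL hyC hZ hd hd2 hE h4 e
  · obtain ⟨E, iE, iE', hpr, hne, h5, ⟨e⟩⟩ := hS
    exact h.false_of_psl hExt hDick hm hy hLn hyL hyC hZ hd hpr hne h5 e
  · exact h.false_of_sz hExt hDick hm hy hLn hyL hyC hZ hd hd2 hS.2
  · exact h.false_of_j1 hExt hDick hJ hm hy hLn hyL hsimple hZ hd hS.2
  · exact hS.1 rfl

end Ct

end Cfsg.Agent.H410.Rg
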