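import Cfsg.Agent.H410.Rg.CP
import Cfsg.Agent.H410.Rg.CtE
import Cfsg.Agent.H383.Rg.Num
import Cfsg.Agent.H383.Rg.NoMax
import Cfsg.Agent.H376.Rg920.Ext
import Cfsg.Agent.H898.Rg920.Dick
import Cfsg.Agent.H370.Rg.Zsig

/-!
# S3691, residual case C: symplectic groups, `q` even (helper410)

`T = Sp(V, B)`, `|F| = 2 ^ f`, `dim V = 2 m`, `m ≥ 3`, `G = X Y` exact (`Fac T X Y`), the preimage of `X` in `Sp(V)` contains the derived
orthogonal group `E(q)` of a quadratic form `q` polarising to `B`.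

* `cplus` : impossible if `q` has plus type (an `m`-dimensional totally singular subspace)
* `cminus_core` : if `q` has minus type, the preimage of `Y` has a normal `2`-subgroup `≠ 1`
* `cminus`, `resC` : impossible for `{X, Y} = {H, B}`, `Ex T H B`
-/

set_option autoImplicit false
set_option linter.unusedSectionVars false

open Cfsg Matrix Module
open Cfsg.Agent.H997.Rg
open Cfsg.Agent.BpCl (Iso)
open Cfsg.Agent.H454.Reg Cfsg.Agent.H449.Reg
open Cfsg.Agent.LieClassical.OrthCore Cfsg.Agent.LieClassical.OrthTrans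
open Cfsg.Agent.H383.Rg (Sd IsQ natR natR_apply alpha_minus no_alpha_max_minus)

namespace Cfsg.Agent.H410.Rg

universe u v w

variable {G : Type u} [Group G] [Finite G] {T : Subgroup G} {F : Type w} {V : Type v} [Field F] [Finite F] [CharP F 2]
  [AddCommGroup V] [Module F V] [FiniteDimensional F V] {B : LinearMap.BilinForm F V}

/-- the order of the preimage of `Y` -/
theorem numbers (D : Sd T B) {X Y : Subgroup G} (hfac : Fac T X Y) {q : V → F} (hq : IsQ B q) {f m T' : ℕ} (hf : 1 ≤ f)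
    (hm : 3 ≤ m) (hF : Nat.card F = 2 ^ f) (hdim : finrank F V = 2 * m) (hE : E hq.toQ ≤ D.pre X)
    (horb : Nat.card (D.Orb q) = 2 ^ (f * m - 1) * T') :
    Nat.card (D.pre Y) ∣ 2 ^ (f * m) * T' ∧ 2 ^ (f * m - 1) * T' ∣ Nat.card (D.pre Y) * f := by
  obtain ⟨e, δ, he, hδ, h1⟩ := D.card_pre_eq hfac hq (by omega) (Or.inr (by omega)) hE
  rw [horb] at h1
  have h2 : e ∣ f := he.trans (D.index_T hF)
  have hfm : 1 ≤ f * m := Nat.mul_pos (by omega) (by omega)
  constructor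
  · refine (Dvd.intro _ h1).trans ?_
    have h3 : 2 ^ (f * m) * T' = 2 * (2 ^ (f * m - 1) * T') := by
      rw [← mul_assoc, ← pow_succ']
      congr 2
      omega
    rw [h3]
    exact Nat.mul_dvd_mul_right (by rcases hδ with rfl | rfl <;> norm_num) _
  · have h3 : 2 ^ (f * m - 1) * T' ∣ Nat.card (D.pre Y) * e := by
      rw [h1]
      exact dvd_mul_left _ _
    exact h3.trans (Nat.mul_dvd_mul_left _ h2)

theorem natR_injective (K : Subgroup (V ≃ₗ[F] V)) : Function.Injective (natR K) := by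
  intro a b h
  apply Subtype.ext
  ext v
  rw [← natR_apply, ← natR_apply, h]

theorem dvd_of_pow_eq {r a : ℕ} [Fact r.Prime] (h : (2 : ZMod r) ^ a = 1) : r ∣ 2 ^ a - 1 := by
  have h1 : (((2 ^ a : ℕ)) : ZMod r) = ((1 : ℕ) : ZMod r) := by
    rw [Nat.cast_pow, Nat.cast_ofNat, h, Nat.cast_one]
  exact (Nat.modEq_iff_dvd' Nat.one_le_two_pow).1 ((ZMod.natCast_eq_natCast_iff _ _ _).1 h1).symm

/-- **C+** -/
theorem cplus (hJ : OutJ1.{v}) (D : Sd T B) {X Y : Subgroup G} (hfac : Fac T X Y) {q : V → F} (hq : IsQ B q) {f m : ℕ}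
    (hf : 1 ≤ f) (hm : 3 ≤ m) (hS : SzC m (2 ^ f)) (hF : Nat.card F = 2 ^ f) (hdim : finrank F V = 2 * m)
    (hE : E hq.toQ ≤ D.pre X) {W : Submodule F V} (hW : finrank F W = m) (h0 : ∀ w ∈ W, q w = 0) : False := by
  have hfinV : Finite V := Module.finite_of_finite F
  have hfinGL : Finite (V ≃ₗ[F] V) := Finite.of_injective (fun g : V ≃ₗ[F] V => (g : V → V)) DFunLike.coe_injective
  have hfm7 := fm_le hm hS hf
  have horb := D.card_orb_plus hq (n := f * m) (by omega) hdim (by rw [hF, ← pow_mul]) hW h0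
  obtain ⟨hd1, hd2⟩ := numbers D hfac hq hf hm hF hdim hE horb
  obtain ⟨r, hr, ho, hlt, -⟩ := H370.Rg.exists_rk (p := 2) (f := 2) (k := f * m) Nat.prime_two (by omega) (by omega)
  have := Fact.mk hr
  have ho2 : orderOf (2 : ZMod r) = 2 * (f * m) := by rw [← ho, Nat.cast_ofNat]
  -- `r ∣ 2 ^ n + 1`
  have h1 : r ∣ 2 ^ (f * m) + 1 := by
    have h2 : r ∣ 2 ^ (2 * (f * m)) - 1 := dvd_of_pow_eq (by rw [← ho2, pow_orderOf_eq_one])
    have h3 : 2 ^ (2 * (f * m)) - 1 = (2 ^ (f * m) + 1) * (2 ^ (f * m) - 1) := by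
      rw [mul_comm 2, pow_mul]
      have := Nat.sq_sub_sq (2 ^ (f * m)) 1
      rwa [one_pow] at this
    rw [h3] at h2
    refine ((Nat.Prime.dvd_mul hr).1 h2).resolve_right fun h4 => ?_
    have h5 := H997.Rg.orderOf_dvd_of_dvd (r := r) (k := f * m) Nat.prime_two h4
    rw [ho] at h5
    have := Nat.le_of_dvd (by omega) h5
    omega
  have hrK : r ∣ Nat.card (D.pre Y) := by
    refine ((Nat.Prime.dvd_mul hr).1 ((h1.mul_left _).trans hd2)).resolve_right fun h4 => ?_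
    have h5 := Nat.le_of_dvd (by omega) h4
    have h6 : f * 1 ≤ f * m := Nat.mul_le_mul_left f (by omega)
    omega
  exact cp_abs hJ (natR (D.pre Y)) (natR_injective _) hf hm hS hF hdim (D.fpf2 hfac (by omega) hq hE) hr ho2 hrK hd1 hd2

/-- **C-** : the preimage of `Y` has a normal `2`-subgroup `≠ 1` -/
theorem cminus_core (hJ : OutJ1.{v}) (D : Sd T B) {X Y : Subgroup G} (hfac : Fac T X Y) {q : V → F} (hq : IsQ B q) {f m r : ℕ}
    (hf : 1 ≤ f) (hm : 3 ≤ m) (hS : SzC m (2 ^ f)) (hF : Nat.card F = 2 ^ f) (hdim : finrank F V = 2 * m)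
    (hE : E hq.toQ ≤ D.pre X) (hmin : ¬ ∃ U : Submodule F V, finrank F U = m ∧ ∀ u ∈ U, q u = 0)
    (hr : r.Prime) (ho : orderOf ((2 : ℕ) : ZMod r) = f * m) :
    r ∣ Nat.card (D.pre Y) ∧ pCore 2 (D.pre Y) ≠ ⊥ := by
  have hfinV : Finite V := Module.finite_of_finite F
  have hfinGL : Finite (V ≃ₗ[F] V) := Finite.of_injective (fun g : V ≃ₗ[F] V => (g : V → V)) DFunLike.coe_injective
  have hfm7 := fm_le hm hS hf
  have horb := D.card_orb_minus hq (n := f * m) (by omega) hdim (by rw [hF, ← pow_mul]) hmin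
  obtain ⟨hd1, hd2⟩ := numbers D hfac hq hf hm hF hdim hE horb
  have := Fact.mk hr
  have ho2 : orderOf (2 : ZMod r) = f * m := by rw [← ho, Nat.cast_ofNat]
  have hr2 : r ≠ 2 := ne_of_orderOf Nat.prime_two ho (by omega)
  have hlt := lt_of_orderOf hr hr2 Nat.prime_two ho
  have h1 : r ∣ 2 ^ (f * m) - 1 := dvd_of_pow_eq (by rw [← ho2, pow_orderOf_eq_one])
  have hrK : r ∣ Nat.card (D.pre Y) := by
    refine ((Nat.Prime.dvd_mul hr).1 ((h1.mul_left _).trans hd2)).resolve_right fun h4 => ?_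
    have h5 := Nat.le_of_dvd (by omega) h4
    have h6 : f * 1 ≤ f * m := Nat.mul_le_mul_left f (by omega)
    omega
  refine ⟨hrK, fun hcore => ?_⟩
  have h2 : ¬ 2 ∣ 2 ^ (f * m) - 1 := not_dvd_sub_one Nat.prime_two (by omega)
  have hfr : Ct B (D.pre Y) f m r :=
    { nd := by
        refine ⟨fun x hx => D.nd x hx, fun x hx => D.nd x fun y => ?_⟩
        have h3 := D.alt (x + y)
        rw [map_add, map_add, LinearMap.add_apply, LinearMap.add_apply, D.alt, D.alt, zero_add, add_zero] at h3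
        have h4 := hx y
        rw [h4, zero_add] at h3
        exact h3
      iso := fun k hk u w => by
        obtain ⟨h3, -⟩ := D.mem_pre.1 hk
        exact h3 u w
      rprime := hr
      fpos := hf
      hm := hm
      sz := hS
      cardF := hF
      dim := hdim
      ord := ho
      fpf := D.fpf2 hfac (by omega) hq hE
      rK := hrK
      dvd := hd1
      val := (card_numC Nat.card_pos.ne' (by omega) h2 hd1 hd2).2.1
      core := hcore }
  exact hfr.contra H376.Rg920.ext H898.Rg920.dick hJ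

theorem E_le_iso {q : V → F} (hq : IsQ B q) {x : V ≃ₗ[F] V} (hx : x ∈ E hq.toQ) : x ∈ Iso (F := F) fun x y => B x y := by
  intro u v
  have h5 := polar_map (E_le_O hx) u v
  rwa [hq.polar, hq.polar] at h5

/-- the normal `2`-subgroup -/
theorem exists_N (D : Sd T B) {Y : Subgroup G} (hcore : pCore 2 (D.pre Y) ≠ ⊥) :
    ∃ N : Subgroup (Iso (F := F) fun x y => B x y), IsPGroup 2 N ∧ N ≠ ⊥ ∧ (∀ x ∈ N, (D.R.π x : G) ∈ Y) ∧
      ∀ x : Iso (F := F) fun x y => B x y, (D.R.π x : G) ∈ Y → ∀ g ∈ N, x * g * x⁻¹ ∈ N := by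
  have hfinV : Finite V := Module.finite_of_finite F
  have hfinGL : Finite (V ≃ₗ[F] V) := Finite.of_injective (fun g : V ≃ₗ[F] V => (g : V → V)) DFunLike.coe_injective
  have hN0 : ∀ x : Iso (F := F) fun x y => B x y, x ∈ ((pCore 2 (D.pre Y)).map (D.pre Y).subtype).subgroupOf _ ↔
      ∃ h : x.1 ∈ D.pre Y, (⟨x.1, h⟩ : D.pre Y) ∈ pCore 2 (D.pre Y) := by
    intro x
    rw [Subgroup.mem_subgroupOf]
    constructor
    · rintro ⟨k, hk, hkx⟩
      have h1 : (k : V ≃ₗ[F] V) = x.1 := hkx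
      refine ⟨by rw [← h1]; exact k.2, ?_⟩
      have h2 : (⟨x.1, by rw [← h1]; exact k.2⟩ : D.pre Y) = k := Subtype.ext h1.symm
      rw [h2]
      exact hk
    · rintro ⟨h, hx⟩
      exact ⟨⟨x.1, h⟩, hx, rfl⟩
  refine ⟨((pCore 2 (D.pre Y)).map (D.pre Y).subtype).subgroupOf _, ?_, ?_, ?_, ?_⟩
  · rintro ⟨x, hx⟩
    obtain ⟨h, hx'⟩ := (hN0 x).1 hx
    obtain ⟨j, hj⟩ := Lib.Cores.pCore_isPGroup 2 (⟨⟨x.1, h⟩, hx'⟩ : pCore 2 (D.pre Y))
    refine ⟨j, ?_⟩
    apply Subtype.ext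
    apply Subtype.ext
    exact congrArg (fun z : pCore 2 (D.pre Y) => ((z : D.pre Y) : V ≃ₗ[F] V)) hj
  · intro hbot
    apply hcore
    rw [Subgroup.eq_bot_iff_forall]
    intro k hk
    obtain ⟨hI, -⟩ := D.mem_pre.1 k.2
    have h1 : (⟨k.1, hI⟩ : Iso (F := F) fun x y => B x y) ∈ ((pCore 2 (D.pre Y)).map (D.pre Y).subtype).subgroupOf
        (Iso (F := F) fun x y => B x y) := (hN0 _).2 ⟨k.2, hk⟩
    rw [hbot, Subgroup.mem_bot] at h1
    have h2 := congrArg Subtype.val h1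
    exact Subtype.ext h2
  · intro x hx
    obtain ⟨h, -⟩ := (hN0 x).1 hx
    obtain ⟨_, h2⟩ := D.mem_pre.1 h
    exact h2
  · intro x hx g hg
    obtain ⟨h, hg'⟩ := (hN0 g).1 hg
    have hxY : x.1 ∈ D.pre Y := D.mem_pre.2 ⟨x.2, hx⟩
    refine (hN0 _).2 ⟨mul_mem (mul_mem hxY h) (inv_mem hxY), ?_⟩
    exact (Lib.Cores.pCore_normal (G := D.pre Y) 2).conj_mem _ hg' ⟨x.1, hxY⟩

/-- **case C-** -/
theorem cminus (hMain : H667.HerFin.Main.{v}) (hJ : OutJ1.{v}) {H C X Y : Subgroup G}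
    (R : Real T (Iso (F := F) fun x y => B x y)) (hA : ∀ v, B v v = 0) (hnd : ∀ u, (∀ v, B u v = 0) → u = 0)
    (e : Ex T H C) (hTC : ¬ T ≤ C) (hXY : (X = H ∧ Y = C) ∨ (X = C ∧ Y = H)) {q : V → F} (hq : IsQ B q) {f m : ℕ}
    (hf : 1 ≤ f) (hm : 3 ≤ m) (hS : SzC m (2 ^ f)) (hF : Nat.card F = 2 ^ f) (hdim : finrank F V = 2 * m)
    (hE : ∀ x : Iso (F := F) fun x y => B x y, x.1 ∈ E hq.toQ → (R.π x : G) ∈ X)
    (hmin : ¬ ∃ U : Submodule F V, finrank F U = m ∧ ∀ u ∈ U, q u = 0) : False := by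
  have hfac : Fac T X Y := by
    rcases hXY with ⟨rfl, rfl⟩ | ⟨rfl, rfl⟩
    · exact e.fac hTC
    · exact (e.fac hTC).symm
  have hne : ∃ v : V, v ≠ 0 := by
    have : Nontrivial V := Module.nontrivial_of_finrank_pos (R := F) (by omega)
    exact exists_ne 0
  have hfm7 := fm_le hm hS hf
  obtain ⟨r, hr, ho, -, -⟩ := H370.Rg.exists_rk (p := 2) (f := f) (k := m) Nat.prime_two (by omega) (by omega)
  have ho2 : orderOf (2 : ZMod r) = f * m := by rw [← ho, Nat.cast_ofNat]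
  let D : Sd T B := Sd.ofFac R hA hnd hne hfac
  have hE' : E hq.toQ ≤ D.pre X := fun x hx => D.mem_pre.2 ⟨E_le_iso hq hx, hE ⟨x, E_le_iso hq hx⟩ hx⟩
  obtain ⟨hrK, hcore⟩ := cminus_core hJ D hfac hq hf hm hS hF hdim hE' hmin hr ho
  obtain ⟨N, hN2, hN1, hNY, hNn⟩ := exists_N D hcore
  rw [D.card_pre] at hrK
  have hFn : Nat.card F ^ m = 2 ^ (f * m) := by rw [hF, ← pow_mul]
  rcases hXY with ⟨rfl, rfl⟩ | ⟨rfl, rfl⟩
  · exact alpha_minus hMain R hA hnd e hTC (by omega) hdim hq hmin hE hr hFn ho2 hrK hN2 hN1 hNY hNn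
  · exact no_alpha_max_minus R hA hnd hfac.symm e.max (by omega) hdim hq hmin hE hr hFn ho2 hrK hN2 hN1 hNY hNn

/-- **the residual case C** : both types of `q` -/
theorem resC (hMain : H667.HerFin.Main.{v}) (hJ : OutJ1.{v}) {H C X Y : Subgroup G}
    (R : Real T (Iso (F := F) fun x y => B x y)) (hA : ∀ v, B v v = 0) (hnd : ∀ u, (∀ v, B u v = 0) → u = 0)
    (e : Ex T H C) (hTC : ¬ T ≤ C) (hXY : (X = H ∧ Y = C) ∨ (X = C ∧ Y = H)) {q : V → F} (hq : IsQ B q) {f m : ℕ}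
    (hf : 1 ≤ f) (hm : 3 ≤ m) (hS : SzC m (2 ^ f)) (hF : Nat.card F = 2 ^ f) (hdim : finrank F V = 2 * m)
    (hE : ∀ x : Iso (F := F) fun x y => B x y, x.1 ∈ E hq.toQ → (R.π x : G) ∈ X) : False := by
  by_cases hmin : ∃ U : Submodule F V, finrank F U = m ∧ ∀ u ∈ U, q u = 0
  · obtain ⟨W, hW, h0⟩ := hmin
    have hfac : Fac T X Y := by
      rcases hXY with ⟨rfl, rfl⟩ | ⟨rfl, rfl⟩
      · exact e.fac hTC
      · exact (e.fac hTC).symm
    have hne : ∃ v : V, v ≠ 0 := by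
      have : Nontrivial V := Module.nontrivial_of_finrank_pos (R := F) (by omega)
      exact exists_ne 0
    let D : Sd T B := Sd.ofFac R hA hnd hne hfac
    have hE' : E hq.toQ ≤ D.pre X := fun x hx => D.mem_pre.2 ⟨E_le_iso hq hx, hE ⟨x, E_le_iso hq hx⟩ hx⟩
    exact cplus hJ D hfac hq hf hm hS hF hdim hE' hW h0
  · exact cminus hMain hJ R hA hnd e hTC hXY hq hf hm hS hF hdim hE hmin

end Cfsg.Agent.H410.Rg

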