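import Cfsg.Agent.H410.Rg.Res
import Cfsg.Agent.H242.Rg.CBridge
import Cfsg.Agent.H659.Rs.Box3
import Cfsg.Agent.H370.Rg.Size

/-!
# S3691, residual case C: final forms for `PSp_{2m}(2^f)`, `m ≥ 3` (helper410)

`Ex T H C`, `¬ T ≤ C`, `eT : T ≃* PSp m F`, `|F| = 2 ^ f`:

* `szC_of` : the size table;
* `not_E_le` : no factor contains (the image of) `E Q`, `Q` a quadratic form polarising to `sympForm` (form of helper925);
* `noOm` : `NoOm m (preG eT H) ∧ NoOm m (preG eT C)` (form of helper659).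
-/

set_option autoImplicit false
set_option linter.unusedSectionVars false

open Cfsg Matrix Module Cfsg.Geo
open Cfsg.Agent.LieClassical.OrthCore Cfsg.Agent.LieClassical.OrthTrans
open Cfsg.Agent.ClassicalGeometry.SympBasic
open Cfsg.Agent.H454.Reg Cfsg.Agent.H449.Reg Cfsg.Agent.H925.Rs Cfsg.Agent.H659.Rs
open Cfsg.Agent.H436 Cfsg.Agent.OrdDiv
open Cfsg.Agent.BpCl (Iso)
open Cfsg.Agent.H383.Rg (Sd IsQ)

namespace Cfsg.Agent.H410.Rg

universe u

variable {G : Type u} [Group G] [Finite G] {T H C : Subgroup G} {F : Type} [Field F] [Fintype F] {m f : ℕ}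

/-- the size table -/
theorem szC_of (hT : 3 * Nat.factorial 29 < Nat.card T) (eT : T ≃* PSp m F) (hm : 3 ≤ m) (hF : Fintype.card F = 2 ^ f) :
    SzC m (2 ^ f) := by
  have hN : IsNamed (.psp m (Fintype.card F)) T := by
    refine .mk' ⟨F, inferInstance, inferInstance, rfl, ⟨eT⟩⟩ ⟨by omega, fun h => by omega, Fintype.isPrimePow_card_of_field⟩ ?_
    rw [Nat.card_congr eT.toEquiv]
    exact psp_eq (by omega)
  obtain ⟨-, h3, h4, h5, h6⟩ := H370.Rg.psp_ge hT hN
  rw [hF] at h3 h4 h5 h6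
  exact ⟨h3, h4, h5, h6⟩

/-- no factor contains `E Q` -/
theorem not_E_pre [CharP F 2] (hMain : H667.HerFin.Main.{0}) (hJ : H997.Rg.OutJ1.{0}) (e : Ex T H C) (hTC : ¬ T ≤ C) (eT : T ≃* PSp m F)
    (hm : 3 ≤ m) (hF : Fintype.card F = 2 ^ f) {q : (Fin m ⊕ Fin m → F) → F} (hq : IsQ (sympBilin m F) q) {X : Subgroup G}
    (hX : X = H ∨ X = C) : ¬ E hq.toQ ≤ preS eT X := by
  intro hE
  have := e.normal
  have hf : 1 ≤ f := by
    rcases Nat.eq_zero_or_pos f with h | h
    · exfalso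
      rw [h, pow_zero] at hF
      have := Fintype.one_lt_card (α := F)
      omega
    · exact h
  have hF' : Nat.card F = 2 ^ f := by rw [Nat.card_eq_fintype_card, hF]
  have hS := szC_of e.large_socle eT hm hF
  have hdim : finrank F (Fin m ⊕ Fin m → F) = 2 * m := by
    rw [Module.finrank_fintype_fun_eq_card, Fintype.card_sum, Fintype.card_fin]
    ring
  have hE' : ∀ x : Iso (F := F) fun x y => sympBilin m F x y, x.1 ∈ E hq.toQ → ((H242.Rg.realB hm eT).π x : G) ∈ X := by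
    intro x hx
    rw [H242.Rg.realB_apply]
    exact (mem_preS (x := x)).1 (hE hx)
  rcases hX with rfl | rfl
  · exact resC hMain hJ (H242.Rg.realB hm eT) H242.Rg.alt H242.Rg.nd e hTC (Or.inl ⟨rfl, rfl⟩) hq hf hm hS hF' hdim hE'
  · exact resC hMain hJ (H242.Rg.realB hm eT) H242.Rg.alt H242.Rg.nd e hTC (Or.inr ⟨rfl, rfl⟩) hq hf hm hS hF' hdim hE'

/-- **form of helper925** -/
theorem not_E_le (hMain : H667.HerFin.Main.{0}) (hJ : H997.Rg.OutJ1.{0}) (e : Ex T H C) (hTC : ¬ T ≤ C) (eT : T ≃* PSp m F)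
    (hm : 3 ≤ m) (hF : Fintype.card F = 2 ^ f) (Q : QuadraticForm F (Fin m ⊕ Fin m → F))
    (hp : ∀ u v, QuadraticMap.polar Q u v = sympForm m F u v) {X : Subgroup G} (hX : X = H ∨ X = C) : ¬ E Q ≤ preS eT X := by
  have := H242.Rg.charP_two hF
  have hq : IsQ (sympBilin m F) ⇑Q :=
    { add := fun x y => by
        rw [sympBilin_apply, ← hp]
        unfold QuadraticMap.polar
        ring
      smul := fun a x => by rw [QuadraticMap.map_smul, smul_eq_mul, pow_two] }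
  have hQ : hq.toQ = Q := QuadraticMap.ext fun x => rfl
  have h1 := not_E_pre hMain hJ e hTC eT hm hF hq hX
  rwa [hQ] at h1

/-- **form of helper659** -/
theorem noOm (hMain : H667.HerFin.Main.{0}) (hJ : H997.Rg.OutJ1.{0}) (e : Ex T H C) (hTC : ¬ T ≤ C) (eT : T ≃* PSp m F)
    (hm : 3 ≤ m) (hF : Fintype.card F = 2 ^ f) : NoOm m (preG eT H) ∧ NoOm m (preG eT C) := by
  have := H242.Rg.charP_two hF
  constructor
  · intro Q hQ hp h
    exact not_E_pre hMain hJ e hTC eT hm hF (H242.Rg.isQ hQ hp) (Or.inl rfl) (H242.Rg.E_le_preS hm _ h)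
  · intro Q hQ hp h
    exact not_E_pre hMain hJ e hTC eT hm hF (H242.Rg.isQ hQ hp) (Or.inr rfl) (H242.Rg.E_le_preS hm _ h)

end Cfsg.Agent.H410.Rg

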