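import Cfsg.Agent.H826.RgF.Defs
import Cfsg.Agent.H522.Rg.PolF
import Cfsg.Agent.H522.Rg.Sect
import Cfsg.Agent.H655.Rg.Fld
import Cfsg.Agent.H884.ElRows

/-!
# S3691, plus type, R7 (helper410, for helper826)

`y2_sec` : a reducible group of isometries of a quadratic space of plus type, dimension `2 m`, with elements of orders `r_(2m-2) ^ i` and
`r_(m-1)` and without `r_(2m-4)`.
-/

set_option autoImplicit false
set_option linter.unusedSectionVars false

namespace Cfsg.Agent.H410.Rg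

open Module QuadraticMap Cfsg Cfsg.Geo Cfsg.Agent.LieClassical.OrthCore Cfsg.Agent.LieClassical.OrthTrans
  Cfsg.Agent.H449.Reg Cfsg.Agent.H955 Cfsg.Agent.H954.TSing Cfsg.Agent.H884.El Cfsg.Agent.H826.RgF
open Cfsg.Agent.H951 (fx cm Inv mem_fx)
open Cfsg.Agent.H522.Rg (coe_ne_one coe_pow_one fx_even fx_odd sp_not_two_odd E_dvd rank_nul)

universe u v


variable {F : Type} [Field F] [Fintype F] {V : Type} [AddCommGroup V] [Module F V] [FiniteDimensional F V]
  {Q : QuadraticForm F V} {A : Subgroup (V ≃ₗ[F] V)}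

/-- two elements -/
structure Dt (Q : QuadraticForm F V) (A : Subgroup (V ≃ₗ[F] V)) (m r l : ℕ) (y x : V ≃ₗ[F] V) : Prop where
  nd : Nondeg Q
  dim : finrank F V = 2 * m
  even : Even m
  six : 6 ≤ m
  plus : IsPlus Q
  le : A ≤ O Q
  hr : PP (Nat.card F) (2 * m - 2) r
  yA : y ∈ A
  yr : y ^ r = 1
  y1 : y ≠ 1
  hl : PP (Nat.card F) (m - 1) l
  xA : x ∈ A
  xl : x ^ l = 1
  x1 : x ≠ 1

namespace Dt

variable {m r l : ℕ} {y x : V ≃ₗ[F] V} (D : Dt Q A m r l y x)
include D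

theorem isoY : Iso Q (y : Module.End F V) r :=
  Iso.mk' D.hr (by have := D.six; omega) (coe_pow_one D.yr) (fun v => mem_O.1 (D.le D.yA) v)

theorem isoX : Iso Q (x : Module.End F V) l :=
  Iso.mk' D.hl (by have := D.six; omega) (coe_pow_one D.xl) (fun v => mem_O.1 (D.le D.xA) v)

theorem cmY : finrank F (cm (y : Module.End F V)) = 2 * m - 2 ∧ ¬ IsPlus (res Q (cm (y : Module.End F V))) :=
  D.isoY.even_case D.nd (coe_ne_one D.y1) D.hr (by obtain ⟨k, hk⟩ := D.even; exact ⟨m - 1, by omega⟩)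
    (by have := D.six; rw [D.dim]; omega)

theorem odd : Odd (m - 1) := by
  obtain ⟨k, hk⟩ := D.even
  have := D.six
  exact ⟨k - 1, by omega⟩

theorem cmX : finrank F (cm (x : Module.End F V)) = 2 * (m - 1) ∧ IsPlus (res Q (cm (x : Module.End F V))) := by
  have h := D.isoX.odd_case D.nd (coe_ne_one D.x1) D.hl D.odd (by have := D.six; rw [D.dim]; omega)
  exact ⟨h.1, h.2.1⟩

theorem fxY : finrank F (fx (y : Module.End F V)) = 2 ∧ ¬ IsPlus (res Q (fx (y : Module.End F V))) := by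
  have h1 := D.cmY
  have h2 := D.isoY.finrank_add
  have h3 := D.six
  rw [D.dim, h1.1] at h2
  refine ⟨by omega, fun h => ?_⟩
  have h4 := (D.isoY.isPlus_fx D.nd (by rw [D.dim]; exact even_two_mul m) (by rw [h1.1]; exact ⟨m - 1, by omega⟩)).1 D.plus
  exact h1.2 (h4.2 h)

theorem fxX : finrank F (fx (x : Module.End F V)) = 2 ∧ IsPlus (res Q (fx (x : Module.End F V))) := by
  have h1 := D.cmX
  have h2 := D.isoX.finrank_add
  have h3 := D.six
  rw [D.dim, h1.1] at h2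
  refine ⟨by omega, ?_⟩
  have h4 := (D.isoX.isPlus_fx D.nd (by rw [D.dim]; exact even_two_mul m) (by rw [h1.1]; exact even_two_mul _)).1 D.plus
  exact h4.1 h1.2

theorem fx_ne : fx (y : Module.End F V) ≠ fx (x : Module.End F V) := by
  intro h
  have h1 := D.fxY.2
  rw [h] at h1
  exact h1 D.fxX.2

/-- invariant subspaces of small dimension are fixed by `x` -/
theorem le_fxX {W : Submodule F V} (hW : ∀ a ∈ A, ∀ w ∈ W, a w ∈ W) (hd : finrank F W ≤ 2) :
    W ≤ fx (x : Module.End F V) :=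
  D.isoX.le_fx D.hl (W := W) (fun w hw => hW x D.xA w hw) (by have := D.six; omega)

theorem not_inv : ¬ ∀ a ∈ A, ∀ w ∈ fx (y : Module.End F V), a w ∈ fx (y : Module.End F V) := by
  intro h
  have h1 := D.le_fxX h D.fxY.1.le
  exact D.fx_ne (Submodule.eq_of_le_of_finrank_eq h1 (by rw [D.fxY.1, D.fxX.1]))

/-- the perp of an invariant subspace -/
theorem inv_perp {W : Submodule F V} (hW : ∀ a ∈ A, ∀ w ∈ W, a w ∈ W) : ∀ a ∈ A, ∀ w ∈ perp Q W, a w ∈ perp Q W :=
  fun a ha w hw => H955.inv_perp (T := a) (D.le ha) (W := W) (fun w hw => hW a ha w hw) w hw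

/-- **the fixed point** -/
theorem exists_line (hred : Rd A) : ∃ v : V, Q v ≠ 0 ∧ (y : V ≃ₗ[F] V) v = v ∧ x v = v ∧ ∀ a ∈ A, ∃ c : F, a v = c • v := by
  obtain ⟨W, hW0, hW1, hW⟩ := hred
  obtain ⟨S, hS0, hS, hSy⟩ : ∃ S : Submodule F V, S ≠ ⊥ ∧ (∀ a ∈ A, ∀ w ∈ S, a w ∈ S) ∧ S ≤ fx (y : Module.End F V) := by
    rcases D.isoY.le_or D.hr D.cmY.1 (W := W) (fun w hw => hW y D.yA w hw) with h | h
    · exact ⟨W, hW0, hW, h⟩
    · refine ⟨perp Q W, ?_, D.inv_perp hW, ?_⟩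
      · intro h0
        apply hW1
        rw [← perp_perp D.nd W, h0, perp_bot]
      · have h1 := perp_anti (Q := Q) h
        rwa [perp_cm D.nd D.isoY.iso D.isoY.ne0 D.isoY.pow] at h1
  have hd : finrank F S ≤ 2 := by rw [← D.fxY.1]; exact Submodule.finrank_mono hSy
  have hSx := D.le_fxX hS hd
  have hd1 : finrank F S = 1 := by
    have h0 : finrank F S ≠ 0 := fun h0 => hS0 (Submodule.finrank_eq_zero.1 h0)
    have h2 : finrank F S ≠ 2 := by
      intro h2
      have h3 : S = fx (y : Module.End F V) := Submodule.eq_of_le_of_finrank_eq hSy (by rw [h2, D.fxY.1])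
      rw [h3] at hS
      exact D.not_inv hS
    omega
  obtain ⟨⟨v, hv⟩, hv0, hvS⟩ := finrank_eq_one_iff'.1 hd1
  have hv0' : v ≠ 0 := fun h => hv0 (Subtype.ext h)
  refine ⟨v, fun h0 => hv0' (aniso_of_not_plus D.fxY.1 D.fxY.2 (hSy hv) h0), mem_fx.1 (hSy hv), mem_fx.1 (hSx hv), fun a ha => ?_⟩
  obtain ⟨c, hc⟩ := hvS ⟨a v, hS a ha v hv⟩
  exact ⟨c, (congrArg Subtype.val hc).symm⟩

end Dt


section

/-- invariant subspaces of the section, `T = ⊥` -/
theorem inv_map {U : Submodule F V} {Φ : A →* (U ≃ₗ[F] U)}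
    (hΦ : ∀ (h : A) (u : U), (h : V ≃ₗ[F] V) (u : V) - ((Φ h u : U) : V) ∈ (⊥ : Submodule F V)) {W : Submodule F U}
    (hW : ∀ a ∈ Φ.range, ∀ w ∈ W, a w ∈ W) : ∀ a ∈ A, ∀ w ∈ W.map U.subtype, a w ∈ W.map U.subtype := by
  rintro a ha _ ⟨w, hw, rfl⟩
  refine ⟨Φ ⟨a, ha⟩ w, hW _ ⟨⟨a, ha⟩, rfl⟩ w hw, ?_⟩
  have h1 := hΦ ⟨a, ha⟩ w
  rw [Submodule.mem_bot] at h1
  exact (sub_eq_zero.1 h1).symm

/-- primes of `Ω(Q)`, odd dimension -/
theorem E_dvd_odd {W : Type} [AddCommGroup W] [Module F W] [FiniteDimensional F W] {R : QuadraticForm F W}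
    (h2 : (2 : F) ≠ 0) (hR : Nondeg R) (hn : 5 ≤ finrank F W) {e t : ℕ} (ht : PP (Nat.card F) e t)
    (he : Even e) (he2 : 2 ≤ e) (hen : e < finrank F W) : t ∣ Nat.card (E R) := by
  have := Fact.mk ht.prime
  have hlt := ht.lt (by omega)
  have ho := ord_eq ht
  obtain ⟨T, hT, hTr, hT1, -, -⟩ := exists_sharp (Q := R) (r := t) (by omega) (ht.ne0 (by omega))
    (by rw [ho]; exact he) hR (A := 1) le_rfl (Or.inr ⟨h2, by rw [ho, mul_one]; exact hen⟩)
  have hE : T ∈ E R := H587.KB8.mem_E_of_odd (LieClassical.OrthFinite.good_of_finite hR hn) hT (ht.odd he2) hTr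
  have ho : orderOf T = t := orderOf_eq_prime hTr hT1
  rw [← ho, ← Subgroup.orderOf_mk T hE]
  exact orderOf_dvd_natCard _

end

section

variable {m r l a2 r4 i : ℕ} {y x : V ≃ₗ[F] V} {v : V}

/-- an element of order a power of a primitive prime divisor fixes `v` -/
theorem fix_v {e r i : ℕ} (hr : PP (Nat.card F) e r) (he : 2 ≤ e) {g : V ≃ₗ[F] V} (ho : orderOf g = r ^ i)
    (hg : ∃ c : F, g v = c • v) : g v = v := by
  obtain ⟨c, hc⟩ := hg
  rcases eq_or_ne v 0 with rfl | hv0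
  · exact map_zero g
  refine H522.Rg.triv_small hr he (i := i) (by rw [← ho, pow_orderOf_eq_one]) (W := Submodule.span F {v}) ?_ ?_ v
    (Submodule.mem_span_singleton_self v)
  · intro w hw
    obtain ⟨d, rfl⟩ := Submodule.mem_span_singleton.1 hw
    rw [map_smul, hc, smul_smul]
    exact Submodule.mem_span_singleton.2 ⟨_, rfl⟩
  · rw [finrank_span_singleton hv0]
    omega

/-- **odd characteristic** -/
theorem y2_odd (D : Dt Q A m r l y x) (hv0 : Q v ≠ 0) (hyv : y v = v) (hv : ∀ a ∈ A, ∃ c : F, a v = c • v)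
    (ha2 : a2 = r ^ i) (hA2 : El A a2) (hAl : El A l) (hr4 : PP (Nat.card F) (2 * m - 4) r4)
    (hA4 : ¬ r4 ∣ Nat.card A) (h2 : (2 : F) ≠ 0) (hL : LO F (2 * m - 1) (2 * m - 2) a2 l) : False := by
  have hm6 := D.six
  have hne : v ≠ 0 := by rintro rfl; exact hv0 (map_zero Q)
  set S := Submodule.span F {v} with hS
  have hSinv : ∀ a ∈ A, ∀ w ∈ S, a w ∈ S := by
    intro a ha w hw
    obtain ⟨d, rfl⟩ := Submodule.mem_span_singleton.1 hw
    obtain ⟨c, hc⟩ := hv a ha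
    rw [map_smul, hc, smul_smul]
    exact Submodule.mem_span_singleton.2 ⟨_, rfl⟩
  have hT : (⊥ : Submodule F V) = S ⊓ perp Q S := by
    rw [eq_comm, eq_bot_iff]
    rintro w ⟨hw1, hw2⟩
    obtain ⟨d, rfl⟩ := Submodule.mem_span_singleton.1 hw1
    have h1 := hw2 v (Submodule.mem_span_singleton_self v)
    rw [polar_smul_right, polar_self', smul_eq_mul] at h1
    rcases mul_eq_zero.1 h1 with h3 | h3
    · rw [h3, zero_smul]; exact Submodule.zero_mem _
    · exact absurd h3 (mul_ne_zero h2 hv0)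
  obtain ⟨U, hU, -, hUn, hUd⟩ := H522.Rg.exists_cpl D.nd S hT
  rw [sup_bot_eq] at hU
  rw [finrank_bot, add_zero, finrank_span_singleton hne, D.dim] at hUd
  have hUinv : ∀ h ∈ A, ∀ u ∈ U, h u ∈ U := by
    rw [hU]
    exact D.inv_perp hSinv
  obtain ⟨Φ, hΦ⟩ := H522.Rg.exists_hom (H := A) (U := U) (T := ⊥) (inf_bot_eq _)
    (by rw [sup_bot_eq]; exact hUinv) (fun h _ v hv => by rw [Submodule.mem_bot] at hv ⊢; rw [hv, map_zero])
  have hpol : ∀ h ∈ A, ∀ u w, polar Q (h u) (h w) = polar Q u w := fun h hh u w => polar_map (D.le hh) u w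
  have hR : Φ.range ≤ O (res Q U) := H522.Rg.hom_iso D.le
    (fun t ht => by rw [Submodule.mem_bot] at ht; rw [ht, map_zero])
    (fun t ht w _ => by rw [Submodule.mem_bot] at ht; rw [ht, polar_zero_left]) hΦ
  have hord : ∀ {e r' j : ℕ} (_ : PP (Nat.card F) e r') (_ : 2 ≤ e), El A (r' ^ j) → El Φ.range (r' ^ j) := by
    rintro e r' j hr' he ⟨g, hg, hgo⟩
    have hgv := fix_v hr' he hgo (hv g hg)
    refine ⟨Φ ⟨g, hg⟩, ⟨_, rfl⟩, ?_⟩
    rw [← hgo]
    refine H522.Rg.orderOf_hom (S := S) hpol bot_le (by rw [sup_bot_eq]; exact hU) hΦ hg ?_ ?_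
    · intro s hs
      obtain ⟨d, rfl⟩ := Submodule.mem_span_singleton.1 hs
      rw [map_smul, hgv]
    · rw [hgo, Nat.cast_pow]
      exact pow_ne_zero _ (hr'.ne0 (by omega))
  have hE2 : El Φ.range a2 := by rw [ha2] at hA2 ⊢; exact hord D.hr (by omega) hA2
  have hEl : El Φ.range l := by
    have := hord (j := 1) D.hl (by omega) (by rwa [pow_one])
    rwa [pow_one] at this
  rcases hL hUn (by omega) Φ.range hR hE2 hEl with ⟨W0, hW0, hW1, hWi⟩ | ⟨s, hs, hsd, -⟩ | hE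
  · -- reducible
    have hWinv := inv_map hΦ hWi
    set W := W0.map U.subtype with hW
    have hWU : W ≤ U := by rw [hW]; exact Submodule.map_subtype_le U W0
    have hWb : W ≠ ⊥ := by
      intro h
      apply hW0
      rw [eq_bot_iff]
      intro w hw
      have h3 : (w : V) ∈ W := ⟨w, hw, rfl⟩
      rw [h, Submodule.mem_bot] at h3
      rw [Submodule.mem_bot]
      exact Subtype.ext h3
    have hWd : finrank F W = finrank F W0 := by
      rw [hW]; exact Submodule.finrank_map_subtype_eq U W0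
    have hWt : finrank F W < 2 * m - 1 := by
      rw [hWd]
      have := Submodule.finrank_lt hW1
      omega
    have hSW : S ⊓ W = ⊥ := by
      rw [eq_bot_iff, hT]
      exact le_inf inf_le_left (inf_le_right.trans (hWU.trans hU.le))
    rcases D.isoY.le_or D.hr D.cmY.1 (W := W) (fun w hw => hWinv y D.yA w hw) with h | h
    · have h1 : S ⊔ W ≤ fx (y : Module.End F V) := by
        refine sup_le ?_ h
        intro s hs
        obtain ⟨d, rfl⟩ := Submodule.mem_span_singleton.1 hs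
        exact mem_fx.2 (by
          change y (d • v) = d • v
          rw [map_smul, hyv])
      have h3 := Submodule.finrank_sup_add_finrank_inf_eq S W
      rw [hSW, finrank_bot, finrank_span_singleton hne] at h3
      have h4 : 1 ≤ finrank F W := by
        rw [Nat.one_le_iff_ne_zero]
        exact fun h0 => hWb (Submodule.finrank_eq_zero.1 h0)
      have h5 : S ⊔ W = fx (y : Module.End F V) := by
        refine Submodule.eq_of_le_of_finrank_le h1 ?_
        rw [D.fxY.1]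
        omega
      apply D.not_inv
      rw [← h5]
      intro a ha w hw
      obtain ⟨s, hs, w', hw', rfl⟩ := Submodule.mem_sup.1 hw
      rw [map_add]
      exact Submodule.add_mem_sup (hSinv a ha s hs) (hWinv a ha w' hw')
    · have h1 := perp_anti (Q := Q) h
      rw [perp_cm D.nd D.isoY.iso D.isoY.ne0 D.isoY.pow] at h1
      have h3 := finrank_add_perp D.nd W
      have h5 : perp Q W = fx (y : Module.End F V) := by
        refine Submodule.eq_of_le_of_finrank_le h1 ?_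
        rw [D.fxY.1]
        have := D.dim
        omega
      apply D.not_inv
      rw [← h5]
      exact D.inv_perp hWinv
  · -- field
    have h3 : (2 * m - 1) - (2 * m - 2) = 1 := by omega
    have h4 : s ∣ 1 := by
      rw [← h3]
      exact Nat.dvd_sub (hsd.trans (Nat.gcd_dvd_left _ _)) (hsd.trans (Nat.gcd_dvd_right _ _))
    exact hs.one_lt.ne' (Nat.dvd_one.1 h4)
  · -- large
    apply hA4
    have h3 := E_dvd_odd h2 hUn (by omega) hr4 ⟨m - 2, by omega⟩ (by omega) (by omega)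
    exact h3.trans ((Subgroup.card_dvd_of_le hE).trans (Subgroup.card_range_dvd Φ))

end

section

variable {m r l a2 r4 i : ℕ} {y x : V ≃ₗ[F] V} {v : V}

/-- **characteristic two** -/
theorem y2_even (D : Dt Q A m r l y x) (hv0 : Q v ≠ 0) (hv : ∀ a ∈ A, a v = v)
    (ha2 : a2 = r ^ i) (hA2 : El A a2) (hAl : El A l) (hr4 : PP (Nat.card F) (2 * m - 4) r4)
    (hA4 : ¬ r4 ∣ Nat.card A) (h2 : (2 : F) = 0) (hL : LS F (2 * m - 2) (2 * m - 2) a2 l) {e t : ℕ}
    (ht : PP (Nat.card F) e t) (he : e = 2 * m - 6 ∨ (8 ≤ m ∧ e = m - 3)) : ¬ t ∣ Nat.card A := by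
  intro htA
  have hm6 := D.six
  have hodd := D.odd
  have hne : v ≠ 0 := by rintro rfl; exact hv0 (map_zero Q)
  set S := Submodule.span F {v} with hS
  have hSv : ∀ a ∈ A, ∀ w ∈ S, a w = w := by
    intro a ha w hw
    obtain ⟨d, rfl⟩ := Submodule.mem_span_singleton.1 hw
    rw [map_smul, hv a ha]
  have hSinv : ∀ a ∈ A, ∀ w ∈ S, a w ∈ S := fun a ha w hw => by rw [hSv a ha w hw]; exact hw
  have hvv : polar Q v v = 0 := by rw [polar_self', h2, zero_mul]
  have hSP : S ≤ perp Q S := by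
    intro w hw z hz
    obtain ⟨c, rfl⟩ := Submodule.mem_span_singleton.1 hw
    obtain ⟨d, rfl⟩ := Submodule.mem_span_singleton.1 hz
    rw [polar_smul_left, polar_smul_right, hvv, smul_zero, smul_zero]
  have hT : S = S ⊓ perp Q S := (inf_eq_left.2 hSP).symm
  obtain ⟨U, hU, hU0, hUn, hUd⟩ := H522.Rg.exists_cpl D.nd S hT
  rw [finrank_span_singleton hne, D.dim] at hUd
  have hpol : ∀ h ∈ A, ∀ u w, polar Q (h u) (h w) = polar Q u w := fun h hh u w => polar_map (D.le hh) u w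
  obtain ⟨Φ, hΦ⟩ := H522.Rg.exists_hom (H := A) (U := U) (T := S) hU0
    (fun h hh u hu => by
      rw [hU]
      exact D.inv_perp hSinv h hh u (by rw [← hU]; exact Submodule.mem_sup_left hu)) hSinv
  have hTU : ∀ t ∈ S, ∀ w ∈ U ⊔ S, polar Q t w = 0 := by
    intro t ht w hw
    rw [hU] at hw
    exact hw t ht
  have hR : ∀ e ∈ Φ.range, ∀ a b : U, polar (res Q U) (e a) (e b) = polar (res Q U) a b :=
    H522.Rg.hom_polar hpol hTU (fun h hh u hu => by
      rw [hU]
      exact D.inv_perp hSinv h hh u (by rw [← hU]; exact Submodule.mem_sup_left hu)) hΦ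
  have hordg : ∀ {g : V ≃ₗ[F] V} (hg : g ∈ A), ((orderOf g : ℕ) : F) ≠ 0 → orderOf (Φ ⟨g, hg⟩) = orderOf g := by
    intro g hg h0
    exact H522.Rg.orderOf_hom (S := S) hpol le_rfl hU hΦ hg (hSv g hg) h0
  have hord : ∀ {e r' j : ℕ} (_ : PP (Nat.card F) e r') (_ : 2 ≤ e), El A (r' ^ j) → El Φ.range (r' ^ j) := by
    rintro e r' j hr' he ⟨g, hg, hgo⟩
    refine ⟨Φ ⟨g, hg⟩, ⟨_, rfl⟩, ?_⟩
    rw [hordg hg, hgo]
    rw [hgo, Nat.cast_pow]
    exact pow_ne_zero _ (hr'.ne0 (by omega))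
  have hE2 : El Φ.range a2 := by rw [ha2] at hA2 ⊢; exact hord D.hr (by omega) hA2
  have hEl : El Φ.range l := by
    have := hord (j := 1) D.hl (by omega) (by rwa [pow_one])
    rwa [pow_one] at this
  have hUd' : finrank F U = 2 * m - 2 := by omega
  have hlarge : ∀ {R : QuadraticForm F U}, (∀ a b, polar R a b = polar (res Q U) a b) → E R ≤ Φ.range → False := by
    intro R hR' hE
    apply hA4
    have hRn : Nondeg R := by
      intro u hu
      refine hUn u fun w => ?_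
      rw [← hR']
      exact hu w
    have h3 := H522.Rg.E_dvd hRn (by omega) ⟨m - 1, by omega⟩ hr4 ⟨m - 2, by omega⟩ (by omega) (by omega)
    exact h3.trans ((Subgroup.card_dvd_of_le hE).trans (Subgroup.card_range_dvd Φ))
  rcases hL hUn hUd' Φ.range hR hE2 hEl with ⟨W0, hW0, hW1, hWi⟩ | ⟨s, hs, hsd, hAs⟩ | hE | ⟨Q', hQ', hE⟩
  · -- reducible
    have hyo : orderOf (Φ ⟨y, D.yA⟩) = r := by
      have h3 : orderOf y = r := by
        have := Fact.mk D.hr.prime
        exact orderOf_eq_prime D.yr D.y1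
      rw [hordg D.yA, h3]
      rw [h3]
      exact D.hr.ne0 (by omega)
    have hz : (Φ ⟨y, D.yA⟩) ^ r = 1 := orderOf_dvd_iff_pow_eq_one.1 hyo.dvd
    have hz1 : Φ ⟨y, D.yA⟩ ≠ 1 := by
      intro h3
      rw [h3, orderOf_one] at hyo
      exact D.hr.prime.one_lt.ne hyo
    rcases H655.Rg.inv_all D.hr (by omega) (coe_pow_one hz) (coe_ne_one hz1) hUd' (U := W0)
      (fun w hw => hWi _ ⟨_, rfl⟩ w hw) with h3 | h3
    · exact hW0 h3
    · exact hW1 h3
  · -- field
    have hl : l ∣ Nat.card Φ.range := by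
      obtain ⟨g, hg, hgo⟩ := hEl
      rw [← hgo, ← Subgroup.orderOf_mk g hg]
      exact orderOf_dvd_natCard _
    have hs2 : s ≠ 2 := by
      rintro rfl
      exact sp_not_two_odd h2 hUn hR D.hl hodd (by omega) (by omega) hl hAs
    have hsodd : Odd s := hs.odd_of_ne_two hs2
    rw [Nat.gcd_self] at hsd
    have hsm : s ∣ m - 1 := by
      have h3 : 2 * m - 2 = 2 * (m - 1) := by omega
      rw [h3] at hsd
      exact ((Nat.coprime_primes hs Nat.prime_two).2 hs2).dvd_of_dvd_mul_left hsd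
    have hsle := Nat.le_of_dvd (by omega) hsm
    have hVf : Finite V := Module.finite_of_finite F
    have hfin : Finite (V ≃ₗ[F] V) := Finite.of_injective (fun g : V ≃ₗ[F] V => (g : V → V)) DFunLike.coe_injective
    have := Fact.mk ht.prime
    obtain ⟨z, hz⟩ := exists_prime_orderOf_dvd_card' t htA
    have hzo : orderOf (z : V ≃ₗ[F] V) = t := by rw [Subgroup.orderOf_coe, hz]
    have hpo : orderOf (Φ z) = t := by
      have h3 := hordg (g := (z : V ≃ₗ[F] V)) z.2 (by rw [hzo]; exact ht.ne0 (by omega))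
      rw [hzo] at h3
      exact h3
    have hp1 : (Φ z) ^ t = 1 := by rw [← hpo, pow_orderOf_eq_one]
    have hp2 : Φ z ≠ 1 := by
      intro h3
      rw [h3, orderOf_one] at hpo
      exact ht.prime.one_lt.ne hpo
    have hfx : finrank F (fx (Φ z : Module.End F U)) = 4 := by
      rcases he with he | ⟨h8, he⟩
      · have h3 := fx_even ht (by omega) (by omega) hp1 hp2
        omega
      · have h3 := fx_odd h2 hUn (hR _ ⟨z, rfl⟩) ht (by obtain ⟨k, hk⟩ := D.even; exact ⟨k - 2, by omega⟩) (by omega) (by omega) hp1 hp2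
        omega
    have hts : t ≠ s := by
      have h3 := ht.lt (by omega)
      rcases he with he | ⟨h8, he⟩
      · omega
      · have h4 := ht.two_mul_dvd (by omega) (by obtain ⟨k, hk⟩ := D.even; exact ⟨k - 2, by omega⟩)
        have h5 := Nat.le_of_dvd (by omega) h4
        omega
    have h3 := hAs.dvd_fx (x := Φ z) ⟨z, rfl⟩ ht.prime hp1 hts
    rw [hfx] at h3
    have h4 : s ∣ 2 ^ 2 := h3
    have h5 := hs.dvd_of_dvd_pow h4
    exact hs2 ((Nat.prime_dvd_prime_iff_eq hs Nat.prime_two).1 h5)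
  · exact hlarge (R := res Q U) (fun _ _ => rfl) (fun e he => hE e (fun a b => polar_map (E_le_O he) a b))
  · exact hlarge hQ' hE

end

/-- **R7** -/
theorem y2_sec {m r2 a2 r4 i l : ℕ} (hQ : Nondeg Q) (hn : finrank F V = 2 * m) (hm : Even m) (hm6 : 6 ≤ m) (hP : IsPlus Q)
    (hA : A ≤ O Q) (hr2 : PP (Nat.card F) (2 * m - 2) r2) (ha2 : a2 = r2 ^ i) (hi : 1 ≤ i) (hA2 : El A a2)
    (hl : PP (Nat.card F) (m - 1) l) (hAl : El A l)
    (hr4 : PP (Nat.card F) (2 * m - 4) r4) (hA4 : ¬ r4 ∣ Nat.card A)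
    (h2 : (2 : F) ≠ 0 → LO F (2 * m - 1) (2 * m - 2) a2 l)
    (h3 : (2 : F) = 0 → LS F (2 * m - 2) (2 * m - 2) a2 l) (hred : Rd A) :
    (2 : F) = 0 ∧ (∃ v, Q v ≠ 0 ∧ ∀ a ∈ A, a v = v) ∧ (∀ t, PP (Nat.card F) (2 * m - 6) t → ¬ t ∣ Nat.card A) ∧
      (∀ t, 8 ≤ m → PP (Nat.card F) (m - 3) t → ¬ t ∣ Nat.card A) := by
  obtain ⟨g, hg, hgo⟩ := hA2
  obtain ⟨k, hk1, hk2, hk3⟩ := H522.Rg.exists_pow_elt hg hi hr2.prime (by rw [hgo, ha2])
  obtain ⟨x, hx, hxo⟩ := hAl
  have D : Dt Q A m r2 l (g ^ k) x :=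
    { nd := hQ, dim := hn, even := hm, six := hm6, plus := hP, le := hA, hr := hr2, yA := hk1, yr := hk2, y1 := hk3,
      hl := hl, xA := hx, xl := by rw [← hxo, pow_orderOf_eq_one]
      x1 := by
        rintro rfl
        rw [orderOf_one] at hxo
        exact hl.prime.one_lt.ne hxo }
  obtain ⟨v, hv0, hyv, -, hv⟩ := D.exists_line hred
  have h20 : (2 : F) = 0 := by
    by_contra h20
    exact y2_odd D hv0 hyv hv ha2 ⟨g, hg, hgo⟩ ⟨x, hx, hxo⟩ hr4 hA4 h20 (h2 h20)
  have hv1 : ∀ a ∈ A, a v = v := by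
    intro a ha
    obtain ⟨c, hc⟩ := hv a ha
    have h4 := mem_O.1 (hA ha) v
    rw [hc, QuadraticMap.map_smul, smul_eq_mul] at h4
    have h5 : c * c = 1 := mul_right_cancel₀ hv0 (by rw [h4, one_mul])
    have h6 : (c - 1) * (c - 1) = 0 := by linear_combination h5 - (c - 1) * h20
    have h7 : c = 1 := sub_eq_zero.1 (mul_self_eq_zero.1 h6)
    rw [hc, h7, one_smul]
  exact ⟨h20, ⟨v, hv0, hv1⟩,
    fun t ht => y2_even D hv0 hv1 ha2 ⟨g, hg, hgo⟩ ⟨x, hx, hxo⟩ hr4 hA4 h20 (h3 h20) ht (Or.inl rfl),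
    fun t h8 ht => y2_even D hv0 hv1 ha2 ⟨g, hg, hgo⟩ ⟨x, hx, hxo⟩ hr4 hA4 h20 (h3 h20) ht (Or.inr ⟨h8, rfl⟩)⟩

end Cfsg.Agent.H410.Rg
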